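import Groth.Agent.Ega41Sep.PerfectBase
import Mathlib.RingTheory.Nilpotent.GeometricallyReduced
import Mathlib.RingTheory.Smooth.Field
import Mathlib.RingTheory.Kaehler.JacobiZariski
import Mathlib.RingTheory.Unramified.Field
import Mathlib.RingTheory.Flat.Basic
import Mathlib.FieldTheory.PurelyInseparable.PerfectClosure
import Mathlib.RingTheory.TensorProduct.Free
import Mathlib.Algebra.Field.ULift
import Mathlib.Algebra.Algebra.Rat
import Mathlib.LinearAlgebra.Dual.Lemmas
import Mathlib.LinearAlgebra.DirectSum.Finsupp

/-!
Separable field extensions: geometrically reduced, formally smooth, Kaehler criterion, Mac Lane.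
-/

universe u v w

namespace Groth.Ega41Sep

open EGA41 TensorProduct KaehlerDifferential

section MapBijective

variable (R : Type w) (F : Type v) (B : Type u) [CommRing R] [CommRing F] [CommRing B] [Algebra R F]
  [Algebra F B] [Algebra R B] [IsScalarTower R F B]

/-- Changing the base does not change the differentials if `dF = 0`. -/
theorem map_bijective_of_D_eq_zero (h : ∀ f : F, D R B (algebraMap F B f) = 0) :
    Function.Bijective (KaehlerDifferential.map R F B B) := by
  refine ⟨?_, KaehlerDifferential.map_surjective R F B⟩
  let L : B →ₗ[F] Ω[B⁄R] :=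
    { toFun := D R B
      map_add' := map_add _
      map_smul' := fun f b => by
        rw [RingHom.id_apply, Algebra.smul_def, Derivation.leibniz, h, smul_zero, add_zero]
        exact algebraMap_smul B f _ }
  let δ : Derivation F B Ω[B⁄R] := Derivation.mk' L fun a b => (D R B).leibniz a b
  refine Function.LeftInverse.injective (g := δ.liftKaehlerDifferential) fun ω => ?_
  have hω : ω ∈ Submodule.span B (Set.range (D R B)) := by
    rw [KaehlerDifferential.span_range_derivation]; trivial
  induction hω using Submodule.span_induction with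
  | mem w hw =>
      obtain ⟨b, rfl⟩ := hw
      rw [KaehlerDifferential.map_D, Derivation.liftKaehlerDifferential_comp_D]
      rfl
  | zero => simp
  | add a b _ _ ha hb => rw [map_add, map_add, ha, hb]
  | smul r a _ ha => rw [map_smul, map_smul, ha]

end MapBijective

section Fields

variable (R : Type w) [CommRing R] (F : Type v) [Field F] (k K : Type u) [Field k] [Field K]
  [Algebra R F] [Algebra F k] [Algebra R k] [IsScalarTower R F k] [Algebra k K] [Algebra F K]
  [IsScalarTower F k K] [Algebra R K] [IsScalarTower R F K] [IsScalarTower R k K]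

theorem subsingleton_h1Cotangent_iff [Algebra.FormallySmooth F K] :
    Subsingleton (Algebra.H1Cotangent k K) ↔ Function.Injective (mapBaseChange F k K) := by
  have h1 := Algebra.H1Cotangent.exact_map_δ F k K
  have h2 := Algebra.H1Cotangent.exact_δ_mapBaseChange F k K
  constructor
  · intro hs
    rw [← LinearMap.ker_eq_bot, eq_bot_iff]
    intro x hx
    obtain ⟨y, rfl⟩ := (h2 x).mp hx
    rw [Subsingleton.elim y 0, map_zero]; exact zero_mem _
  · intro hinj
    have : ∀ y : Algebra.H1Cotangent k K, y = 0 := fun y => by
      obtain ⟨z, rfl⟩ := (h1 y).mp (hinj ((h2 _).mpr ⟨y, rfl⟩ |>.trans (map_zero _).symm))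
      rw [Subsingleton.elim z 0, map_zero]
    exact ⟨fun a b => (this a).trans (this b).symm⟩

theorem formallySmooth_field_iff_injective [Algebra.FormallySmooth F K] :
    Algebra.FormallySmooth k K ↔ Function.Injective (mapBaseChange F k K) := by
  rw [← subsingleton_h1Cotangent_iff F k K]
  exact ⟨fun h => h.subsingleton_h1Cotangent, fun h => ⟨inferInstance, h⟩⟩

theorem injective_mapBaseChange_iff_of_D_eq_zero
    (hk : ∀ f : F, D R k (algebraMap F k f) = 0) :
    Function.Injective (mapBaseChange R k K) ↔ Function.Injective (mapBaseChange F k K) := by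
  have hK : ∀ f : F, D R K (algebraMap F K f) = 0 := fun f => by
    rw [IsScalarTower.algebraMap_apply F k K, ← KaehlerDifferential.map_D R R k K, hk, map_zero]
  have hbk := map_bijective_of_D_eq_zero R F k hk
  have hbK := map_bijective_of_D_eq_zero R F K hK
  let ek := LinearEquiv.ofBijective _ hbk
  have hcomp : (mapBaseChange F k K).comp (ek.toLinearMap.baseChange K) =
      ((KaehlerDifferential.map R F K K).comp (mapBaseChange R k K)) := by
    refine TensorProduct.AlgebraTensorModule.curry_injective ?_
    refine LinearMap.ext_ring (LinearMap.ext fun ω => ?_)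
    have hω : ω ∈ Submodule.span k (Set.range (D R k)) := by
      rw [KaehlerDifferential.span_range_derivation]; trivial
    induction hω using Submodule.span_induction with
    | mem w hw =>
        obtain ⟨b, rfl⟩ := hw
        simp [ek, KaehlerDifferential.map_D]
    | zero => simp
    | add a b _ _ ha hb => simp only [map_add, ha, hb]
    | smul r a _ ha => rw [map_smul, map_smul, ha]
  have he : (ek.toLinearMap.baseChange K) = (ek.baseChange k K _ _).toLinearMap := by
    ext; simp
  have h1 : Function.Injective ((mapBaseChange F k K).comp (ek.baseChange k K _ _).toLinearMap) ↔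
      Function.Injective (mapBaseChange F k K) := by
    rw [LinearMap.coe_comp]
    exact (ek.baseChange k K _ _).toEquiv.injective_comp _
  rw [← h1, ← he, hcomp, LinearMap.coe_comp]
  exact ⟨fun h => hbK.1.comp h, fun h => h.of_comp⟩

end Fields

section CharP

variable (p : ℕ) [hp : Fact p.Prime]

/-- A copy of `ZMod p` in the given universe. -/
abbrev ZModU : Type u := ULift.{u} (ZMod p)

instance : Finite (ZModU.{u} p) := Finite.of_equiv (ZMod p) Equiv.ulift.symm

/-- The algebra structure over the prime field. -/
@[reducible] noncomputable def zmodUAlgebra (K : Type u) [CommRing K] [CharP K p] : Algebra (ZModU.{u} p) K :=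
  ((ZMod.castHom (dvd_refl p) K).comp ULift.ringEquiv.toRingHom).toAlgebra

lemma formallySmooth_zmodU (K : Type u) [Field K] [CharP K p] [Algebra (ZModU.{u} p) K] :
    Algebra.FormallySmooth (ZModU.{u} p) K := by
  haveI : CharP (ZModU.{u} p) p := charP_of_injective_ringHom
    (f := ULift.ringEquiv.symm.toRingHom) (RingEquiv.injective _) p
  haveI : PerfectRing (ZModU.{u} p) p := PerfectRing.ofFiniteOfIsReduced p _
  obtain ⟨T, hT⟩ := exists_isPBasis p (ZModU.{u} p) K
  exact formallySmooth_of_isPBasis hT

lemma D_int_zmodU {k : Type u} [CommRing k] [CharP k p] [Algebra (ZModU.{u} p) k]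
    (f : ZModU.{u} p) : D ℤ k (algebraMap (ZModU.{u} p) k f) = 0 := by
  obtain ⟨f⟩ := f
  have : (algebraMap (ZModU.{u} p) k ⟨f⟩) = (f.val : k) := by
    have h : (⟨f⟩ : ZModU.{u} p) = ((f.val : ℕ) : ZModU.{u} p) := by
      refine ULift.ext _ _ ?_
      rw [ULift.down_natCast, ZMod.natCast_zmod_val]
    rw [h, map_natCast]
  rw [this]
  exact Derivation.map_natCast _ _

lemma pow_mem_range_of_mem_pPower {k : Type u} [Field k] [CharP k p] [Algebra (ZModU.{u} p) k]
    {a : k} (ha : a ∈ pPowerSubalgebra p (ZModU.{u} p) k) : ∃ c : k, c ^ p = a := by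
  haveI : CharP (ZModU.{u} p) p := charP_of_injective_ringHom
    (f := ULift.ringEquiv.symm.toRingHom) (RingEquiv.injective _) p
  haveI : PerfectRing (ZModU.{u} p) p := PerfectRing.ofFiniteOfIsReduced p _
  exact pPower_eq_range_frobenius ha

variable (k K : Type u) [Field k] [Field K] [Algebra k K] [CharP k p]

/-- Mac Lane's condition: `p`-th powers of linearly independent families stay independent. -/
def PowIndep : Prop :=
  ∀ {ι : Type u} (s : ι → K), LinearIndependent k s → LinearIndependent k fun i => s i ^ p

lemma isPIndependent_map_of_powIndep [CharP K p] [Algebra (ZModU.{u} p) k] [Algebra (ZModU.{u} p) K]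
    [IsScalarTower (ZModU.{u} p) k K] (T : Set k)
    (hT : IsPBasis p (ZModU.{u} p) (Subtype.val : T → k)) (h : PowIndep p k K) :
    IsPIndependent p (ZModU.{u} p) (fun t : T => algebraMap k K t) := by
  classical
  let F := ZModU.{u} p
  let x : T → K := fun t => algebraMap k K t
  rw [IsPIndependent, linearIndependent_iff']
  intro E g hg e he
  choose rt hrt using fun r : pPowerSubalgebra p F K => pow_mem_range_of_mem_pPower p r.2
  let V := Module.Basis.ofVectorSpace k K
  have hV := h (fun i => V i) V.linearIndependent
  let d := fun e => V.repr (rt (g e))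
  let J : Finset (Module.Basis.ofVectorSpaceIndex k K) := E.biUnion fun e => (d e).support
  have hrtd : ∀ e ∈ E, rt (g e) = ∑ j ∈ J, d e j • V j := fun e he => by
    conv_lhs => rw [← V.linearCombination_repr (rt (g e))]
    rw [Finsupp.linearCombination_apply, Finsupp.sum_of_support_subset _
      (Finset.subset_biUnion_of_mem (fun e => (d e).support) he) _ (by simp)]
  have hmon : ∀ e : T →₀ ℕ, algebraMap k K (pMonomial Subtype.val e) = pMonomial x e := fun e => by
    simp [pMonomial, map_finsuppProd, x]
  have hzero : ∑ j ∈ J, (∑ e ∈ E, d e j ^ p * pMonomial Subtype.val e.1) • V j ^ p = 0 := by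
    rw [← hg]
    calc _ = ∑ j ∈ J, ∑ e ∈ E, (d e j • V j) ^ p * pMonomial x e.1 := by
          refine Finset.sum_congr rfl fun j _ => ?_
          rw [Finset.sum_smul]
          refine Finset.sum_congr rfl fun e _ => ?_
          rw [smul_pow, Algebra.smul_def, Algebra.smul_def, map_mul, hmon]
          ring
      _ = ∑ e ∈ E, ∑ j ∈ J, (d e j • V j) ^ p * pMonomial x e.1 := Finset.sum_comm
      _ = _ := by
          refine Finset.sum_congr rfl fun e he => ?_
          rw [← Finset.sum_mul, ← sum_pow_char, ← hrtd e he, hrt, Algebra.smul_def]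
          rfl
  have hd : ∀ j ∈ J, d e j = 0 := fun j hj => by
    have h1 := linearIndependent_iff'.mp hV J _ hzero j hj
    have h2 := linearIndependent_iff'.mp hT.1 E (fun e => pp p F (d e j))
      (by simpa [Algebra.smul_def] using h1) e he
    exact pow_eq_zero_iff hp.out.ne_zero |>.mp (congrArg Subtype.val h2)
  refine Subtype.ext ?_
  rw [← hrt, hrtd e he, Finset.sum_eq_zero fun j hj => by rw [hd j hj, zero_smul],
    zero_pow hp.out.ne_zero]
  rfl

lemma powIndep_of_isPIndependent_map [CharP K p] [Algebra (ZModU.{u} p) k] [Algebra (ZModU.{u} p) K]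
    [IsScalarTower (ZModU.{u} p) k K] (T : Set k)
    (hT : IsPBasis p (ZModU.{u} p) (Subtype.val : T → k))
    (hx : IsPIndependent p (ZModU.{u} p) (fun t : T => algebraMap k K t)) : PowIndep p k K := by
  classical
  let F := ZModU.{u} p
  let x : T → K := fun t => algebraMap k K t
  intro ι s hs
  rw [linearIndependent_iff'] at hs ⊢
  intro S g hg i hi
  have hsp : ∀ a : k, a ∈ Submodule.span (pPowerSubalgebra p F k)
      (Set.range fun e : {e : T →₀ ℕ // ∀ i, e i < p} => pMonomial Subtype.val e.1) := fun a => by
    rw [show _ = ⊤ from hT.2]; trivial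
  choose c hc using fun j => Finsupp.mem_span_range_iff_exists_finsupp.mp (hsp (g j))
  choose rt hrt using fun r : pPowerSubalgebra p F k => pow_mem_range_of_mem_pPower p r.2
  let E : Finset {e : T →₀ ℕ // ∀ i, e i < p} := S.biUnion fun j => (c j).support
  have hgj : ∀ j ∈ S, g j = ∑ e ∈ E, rt (c j e) ^ p * pMonomial Subtype.val e.1 := by
    intro j hj
    rw [← hc j, Finsupp.sum_of_support_subset _ (Finset.subset_biUnion_of_mem (fun j => (c j).support) hj)
      _ (by simp)]
    refine Finset.sum_congr rfl fun e _ => ?_
    rw [hrt, Algebra.smul_def]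
    rfl
  have hmon : ∀ e : T →₀ ℕ, algebraMap k K (pMonomial Subtype.val e) = pMonomial x e := fun e => by
    simp [pMonomial, map_finsuppProd, x]
  have hsum : ∑ e ∈ E, (pp p F (∑ j ∈ S, algebraMap k K (rt (c j e)) * s j)) • pMonomial x e.1 = 0 := by
    rw [← hg]
    calc _ = ∑ e ∈ E, ∑ j ∈ S, (algebraMap k K (rt (c j e)) * s j) ^ p * pMonomial x e.1 := by
          refine Finset.sum_congr rfl fun e _ => ?_
          rw [Algebra.smul_def, algebraMap_pp, sum_pow_char, Finset.sum_mul]
      _ = ∑ j ∈ S, ∑ e ∈ E, (algebraMap k K (rt (c j e)) * s j) ^ p * pMonomial x e.1 :=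
          Finset.sum_comm
      _ = _ := by
          refine Finset.sum_congr rfl fun j hj => ?_
          rw [Algebra.smul_def, hgj j hj, map_sum, Finset.sum_mul]
          refine Finset.sum_congr rfl fun e _ => ?_
          rw [map_mul, map_pow, hmon, mul_pow]
          ring
  have hz := fun e he => linearIndependent_iff'.mp hx E _ hsum e he
  rw [hgj i hi, Finset.sum_eq_zero]
  intro e he
  have h0 : ∑ j ∈ S, algebraMap k K (rt (c j e)) * s j = 0 :=
    pow_eq_zero_iff hp.out.ne_zero |>.mp (congrArg Subtype.val (hz e he))
  have : rt (c i e) = 0 := hs S (fun j => rt (c j e)) (by simpa [Algebra.smul_def] using h0) i hi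
  rw [this, zero_pow hp.out.ne_zero, zero_mul]

theorem formallySmooth_iff_powIndep :
    (Algebra.FormallySmooth k K ↔ Function.Injective (mapBaseChange ℤ k K)) ∧
    (Function.Injective (mapBaseChange ℤ k K) ↔ PowIndep p k K) := by
  classical
  haveI : CharP K p := charP_of_injective_algebraMap (algebraMap k K).injective p
  let F := ZModU.{u} p
  letI : Algebra F k := zmodUAlgebra p k
  letI : Algebra F K := ((algebraMap k K).comp (algebraMap F k)).toAlgebra
  haveI : IsScalarTower F k K := IsScalarTower.of_algebraMap_eq fun _ => rfl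
  haveI : Algebra.FormallySmooth F K := formallySmooth_zmodU p K
  have hFK := injective_mapBaseChange_iff_of_D_eq_zero ℤ F k K (D_int_zmodU p)
  refine ⟨(formallySmooth_field_iff_injective F k K).trans hFK.symm, hFK.trans ?_⟩
  obtain ⟨T, hT⟩ := exists_isPBasis p F k
  obtain ⟨b, hb⟩ := exists_basis_kaehler hT
  let x : T → K := fun t => algebraMap k K t
  have hmb : ∀ t, mapBaseChange F k K (b.baseChange K t) = D F K (x t) := fun t => by
    rw [Module.Basis.baseChange_apply, hb, mapBaseChange_tmul, one_smul, KaehlerDifferential.map_D]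
  have hinj : Function.Injective (mapBaseChange F k K) ↔ IsPIndependent p F x := by
    rw [isPIndependent_iff_linearIndependent]
    constructor
    · intro h
      have := (b.baseChange K).linearIndependent.map' _ (LinearMap.ker_eq_bot.mpr h)
      exact (funext hmb : (mapBaseChange F k K) ∘ (b.baseChange K) = _) ▸ this
    · intro h
      rw [← LinearMap.ker_eq_bot]
      rw [LinearMap.ker_eq_bot]
      have hcomp : (mapBaseChange F k K).comp (b.baseChange K).repr.symm.toLinearMap =
          Finsupp.linearCombination K (fun t => D F K (x t)) :=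
        Finsupp.lhom_ext' fun t => LinearMap.ext_ring (by
          simp [← hmb, Module.Basis.repr_symm_apply])
      have h2 : Function.Injective (mapBaseChange F k K ∘ (b.baseChange K).repr.symm) := by
        show Function.Injective ((mapBaseChange F k K).comp (b.baseChange K).repr.symm.toLinearMap)
        rw [hcomp]; exact h
      exact ((b.baseChange K).repr.symm.toEquiv.injective_comp _).mp h2
  rw [hinj]
  exact ⟨powIndep_of_isPIndependent_map p k K T hT, isPIndependent_map_of_powIndep p k K T hT⟩

omit hp [CharP k p] in
lemma linearIndependent_one_tmul {A : Type*} [CommRing A] [Algebra k A] {ι : Type u} {v : ι → K}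
    (hv : LinearIndependent k v) : LinearIndependent A fun i => (1 : A) ⊗ₜ[k] v i := by
  classical
  rw [linearIndependent_iff']
  intro S c hc i hi
  have hinj := Module.Flat.lTensor_preserves_injective_linearMap (M := A) _ hv
  have h0 : ∑ j ∈ S, c j ⊗ₜ[k] (Finsupp.single j (1 : k)) = 0 := hinj (by
    simpa [map_sum, smul_tmul'] using hc)
  have h1 := congrArg (fun t => TensorProduct.finsuppScalarRight k k A ι t i) h0
  simpa [map_sum, Finsupp.finsetSum_apply, Finsupp.single_apply, hi] using h1

theorem isGeometricallyReduced_iff_powIndep :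
    Algebra.IsGeometricallyReduced k K ↔ PowIndep p k K := by
  classical
  haveI : CharP (AlgebraicClosure k) p :=
    charP_of_injective_algebraMap (algebraMap k (AlgebraicClosure k)).injective p
  haveI : CharP K p := charP_of_injective_algebraMap (algebraMap k K).injective p
  haveI : CharP (AlgebraicClosure k ⊗[k] K) p := charP_of_injective_ringHom
    (Algebra.TensorProduct.includeRight : K →ₐ[k] AlgebraicClosure k ⊗[k] K).toRingHom.injective
    p
  rw [Algebra.isGeometricallyReduced_field_iff]
  constructor
  · intro hred ι s hs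
    rw [linearIndependent_iff'] at hs ⊢
    intro S g hg i hi
    choose b hb using fun j => IsAlgClosed.exists_pow_nat_eq (algebraMap k (AlgebraicClosure k) (g j)) hp.out.pos
    have h1 : (∑ j ∈ S, b j ⊗ₜ[k] s j) ^ p = 0 := by
      rw [sum_pow_char]
      simp only [Algebra.TensorProduct.tmul_pow, hb, Algebra.algebraMap_eq_smul_one, smul_tmul]
      rw [← TensorProduct.tmul_sum, hg, tmul_zero]
    have h2 := hred.eq_zero _ ⟨p, h1⟩
    have hi' := (linearIndependent_iff'.mp (linearIndependent_one_tmul k K
      (A := AlgebraicClosure k) (linearIndependent_iff'.mpr hs)) S b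
      (by simpa [smul_tmul'] using h2) i hi)
    have := hb i
    rw [hi', zero_pow hp.out.ne_zero] at this
    exact (algebraMap k (AlgebraicClosure k)).injective (this.symm.trans (map_zero _).symm)
  · intro h
    let V := Module.Basis.ofVectorSpace k K
    let B := V.baseChange (AlgebraicClosure k)
    have hi : LinearIndependent (AlgebraicClosure k)
        fun j => (1 : AlgebraicClosure k) ⊗ₜ[k] (V j ^ p) :=
      linearIndependent_one_tmul k K (h (fun j => V j) V.linearIndependent)
    suffices ∀ z : AlgebraicClosure k ⊗[k] K, z ^ p = 0 → z = 0 by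
      refine ⟨fun z ⟨n, hn⟩ => ?_⟩
      induction n generalizing z with
      | zero => rw [pow_zero] at hn; rw [← mul_one z, hn, mul_zero]
      | succ n ih =>
          rcases Nat.eq_zero_or_pos n with rfl | hn0
          · simpa using hn
          have h1 : (z ^ p) ^ n = 0 := by
            rw [← pow_mul]
            exact pow_eq_zero_of_le (by nlinarith [hp.out.two_le]) hn
          exact this z (ih (z ^ p) ⟨n, h1⟩ h1)
    intro z hz
    rw [← B.linearCombination_repr z, Finsupp.linearCombination_apply, Finsupp.sum] at hz ⊢
    rw [sum_pow_char] at hz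
    have h1 : ∑ j ∈ (B.repr z).support,
        (B.repr z j) ^ p • ((1 : AlgebraicClosure k) ⊗ₜ[k] (V j ^ p)) = 0 := by
      rw [← hz]
      refine Finset.sum_congr rfl fun j _ => ?_
      rw [smul_pow, Module.Basis.baseChange_apply, Algebra.TensorProduct.tmul_pow, one_pow]
    refine Finset.sum_eq_zero fun j hj => ?_
    rw [pow_eq_zero_iff hp.out.ne_zero |>.mp (linearIndependent_iff'.mp hi _ _ h1 j hj), zero_smul]

end CharP

section CharZeroCase

variable (k : Type v) (K : Type u) [Field k] [Field K] [Algebra k K] [CharZero k]

lemma formallySmooth_charZero : Algebra.FormallySmooth k K := by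
  obtain ⟨s, hs⟩ := exists_isTranscendenceBasis k K
  haveI : CharZero (IntermediateField.adjoin k (Set.range ((↑) : s → K))) :=
    charZero_of_injective_algebraMap (algebraMap k _).injective
  haveI : Algebra.IsAlgebraic (IntermediateField.adjoin k (Set.range ((↑) : s → K))) K :=
    hs.isAlgebraic_field
  haveI : Algebra.IsSeparable (IntermediateField.adjoin k (Set.range ((↑) : s → K))) K :=
    inferInstance
  exact .of_algebraicIndependent_of_isSeparable hs.1

omit [CharZero k] in
lemma D_int_rat {F : Type*} [Field F] [CharZero F] [Algebra ℚ F] (q : ℚ) :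
    D ℤ F (algebraMap ℚ F q) = 0 := by
  have hn : (q.den : F) • D ℤ F (algebraMap ℚ F q) = 0 := by
    have h := congrArg (D ℤ F) (show (q.den : F) * algebraMap ℚ F q = (q.num : F) by
      rw [← map_natCast (algebraMap ℚ F), ← map_mul, Rat.den_mul_eq_num, map_intCast])
    rw [Derivation.leibniz, Derivation.map_natCast, smul_zero, add_zero, Derivation.map_intCast] at h
    exact h
  exact (smul_eq_zero.mp hn).resolve_left (Nat.cast_ne_zero.mpr q.den_ne_zero)

theorem injective_mapBaseChange_charZero (k K : Type u) [Field k] [Field K] [Algebra k K] [CharZero k] :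
    Function.Injective (mapBaseChange ℤ k K) := by
  haveI : CharZero K := charZero_of_injective_algebraMap (algebraMap k K).injective
  haveI : Algebra.FormallySmooth ℚ K := formallySmooth_charZero ℚ K
  rw [injective_mapBaseChange_iff_of_D_eq_zero ℤ ℚ k K (fun q => D_int_rat q),
    ← subsingleton_h1Cotangent_iff ℚ k K]
  exact (formallySmooth_charZero k K).subsingleton_h1Cotangent

theorem isGeometricallyReduced_charZero : Algebra.IsGeometricallyReduced k K := by
  rw [Algebra.isGeometricallyReduced_field_iff]
  suffices IsReduced (K ⊗[k] AlgebraicClosure k) from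
    isReduced_of_injective _ (Algebra.TensorProduct.comm k (AlgebraicClosure k) K).injective
  refine IsReduced.tensorProduct_of_flat_of_forall_fg fun L hL => ?_
  haveI : Algebra.FiniteType k L := L.fg_iff_finiteType.mp hL
  haveI : Algebra.IsAlgebraic k L := L.isAlgebraic_iff.mp fun z _ => Algebra.IsAlgebraic.isAlgebraic z
  haveI : Algebra.FormallyUnramified k L := by
    let L' := L.toIntermediateField (fun z hz => L.inv_mem_of_algebraic (Algebra.IsAlgebraic.isAlgebraic (⟨z, hz⟩ : L).1))
    haveI : Algebra.IsSeparable k L' := inferInstance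
    exact Algebra.FormallyUnramified.of_isSeparable k L'
  exact Algebra.FormallyUnramified.isReduced_of_field K (K ⊗[k] L)

end CharZeroCase

section Main

variable (k K : Type u) [Field k] [Field K] [Algebra k K]

theorem formallySmooth_iff_injective :
    Algebra.FormallySmooth k K ↔ Function.Injective (mapBaseChange ℤ k K) := by
  obtain h | ⟨p, hp, hpk⟩ := CharP.exists' k
  · exact ⟨fun _ => injective_mapBaseChange_charZero k K, fun _ => formallySmooth_charZero k K⟩
  · exact (formallySmooth_iff_powIndep p k K).1

theorem isGeometricallyReduced_iff_injective :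
    Algebra.IsGeometricallyReduced k K ↔ Function.Injective (mapBaseChange ℤ k K) := by
  obtain h | ⟨p, hp, hpk⟩ := CharP.exists' k
  · exact ⟨fun _ => injective_mapBaseChange_charZero k K, fun _ => isGeometricallyReduced_charZero k K⟩
  · exact (isGeometricallyReduced_iff_powIndep p k K).trans (formallySmooth_iff_powIndep p k K).2.symm

theorem formallySmooth_iff_isGeometricallyReduced :
    Algebra.FormallySmooth k K ↔ Algebra.IsGeometricallyReduced k K :=
  (formallySmooth_iff_injective k K).trans (isGeometricallyReduced_iff_injective k K).symm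

theorem injective_iff_derivation_extends :
    Function.Injective (mapBaseChange ℤ k K) ↔
      ∀ D₀ : Derivation ℤ k K, ∃ D' : Derivation ℤ K K, ∀ a : k, D' (algebraMap k K a) = D₀ a := by
  constructor
  · intro h D₀
    let f : K ⊗[k] Ω[k⁄ℤ] →ₗ[K] K := D₀.liftKaehlerDifferential.liftBaseChange K
    obtain ⟨g, hg⟩ := LinearMap.exists_leftInverse_of_injective _ (LinearMap.ker_eq_bot.mpr h)
    refine ⟨(f.comp g).compDer (D ℤ K), fun a => ?_⟩
    have h1 := LinearMap.congr_fun hg (1 ⊗ₜ D ℤ k a)
    simp only [LinearMap.comp_apply, mapBaseChange_tmul, one_smul, KaehlerDifferential.map_D,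
      LinearMap.id_apply] at h1
    show f (g (D ℤ K (algebraMap k K a))) = D₀ a
    rw [h1]; simp [f]
  · intro h
    rw [← LinearMap.ker_eq_bot, eq_bot_iff]
    intro z hz
    by_contra hne
    obtain ⟨φ, hφ⟩ := Module.Projective.exists_dual_ne_zero K (x := z) hne
    let l : Ω[k⁄ℤ] →ₗ[k] K :=
      (φ.restrictScalars k).comp ((TensorProduct.mk k K Ω[k⁄ℤ] 1))
    obtain ⟨D', hD'⟩ := h (l.compDer (D ℤ k))
    have heq : φ = D'.liftKaehlerDifferential.comp (mapBaseChange ℤ k K) := by
      refine TensorProduct.AlgebraTensorModule.curry_injective ?_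
      refine LinearMap.ext_ring (LinearMap.ext fun ω => ?_)
      have hω : ω ∈ Submodule.span k (Set.range (D ℤ k)) := by
        rw [KaehlerDifferential.span_range_derivation]; trivial
      induction hω using Submodule.span_induction with
      | mem w hw =>
          obtain ⟨b, rfl⟩ := hw
          simp [KaehlerDifferential.map_D, hD', l]
      | zero => simp
      | add a b _ _ ha hb => simp only [map_add, ha, hb]
      | smul r a _ ha => rw [map_smul, map_smul, ha]
    apply hφ
    rw [heq, LinearMap.comp_apply, LinearMap.mem_ker.mp hz, map_zero]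

end Main

end Groth.Ega41Sep
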