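import Groth.Agent.Ega41Sep.PBasis
import Mathlib.FieldTheory.IntermediateField.Adjoin.Basic
import Mathlib.FieldTheory.KummerExtension
import Mathlib.LinearAlgebra.LinearIndependent.Basic
import Mathlib.LinearAlgebra.Basis.VectorSpace

/-!
`p`-bases of field extensions and Kaehler differentials.
-/

universe u v

namespace Groth.Ega41Sep

open EGA41 IntermediateField

variable {p : ℕ} [hp : Fact p.Prime] {k K : Type u} [Field k] [Field K] [Algebra k K] [CharP K p]

omit [CharP K p] in
lemma inv_mem_of_pow_mem (S : Subalgebra k K) (hS : ∀ z : K, z ^ p ∈ S) (z : K) (hz : z ∈ S) :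
    z⁻¹ ∈ S := by
  rcases eq_or_ne z 0 with rfl | h
  · simp
  have : z⁻¹ = z ^ (p - 1) * (z⁻¹) ^ p := by
    have hp1 : p = p - 1 + 1 := (Nat.succ_pred_eq_of_pos hp.out.pos).symm
    conv_rhs => arg 2; rw [hp1, pow_succ, inv_pow, ]
    field_simp
  rw [this]
  exact mul_mem (pow_mem hz _) (hS _)

lemma finrank_adjoin_simple_of_pow_mem (M : IntermediateField k K) {z : K} (hz : z ∉ M)
    (hzp : z ^ p ∈ M) : Module.finrank M M⟮z⟯ = p ∧ IsIntegral M z ∧
      minpoly M z = Polynomial.X ^ p - Polynomial.C (⟨z ^ p, hzp⟩ : M) := by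
  have hirr : Irreducible (Polynomial.X ^ p - Polynomial.C (⟨z ^ p, hzp⟩ : M)) := by
    refine X_pow_sub_C_irreducible_of_prime hp.out fun b hb => hz ?_
    have h1 : (b : K) ^ p = z ^ p := congrArg Subtype.val hb
    have : (b : K) = z := frobenius_inj K p h1
    exact this ▸ b.2
  have h0 : Polynomial.aeval z (Polynomial.X ^ p - Polynomial.C (⟨z ^ p, hzp⟩ : M)) = 0 := by
    simp [IntermediateField.algebraMap_apply]
  have hmin := minpoly.eq_of_irreducible_of_monic hirr h0 (Polynomial.monic_X_pow_sub_C _ hp.out.ne_zero)
  have hint : IsIntegral M z := ⟨_, Polynomial.monic_X_pow_sub_C _ hp.out.ne_zero, h0⟩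
  refine ⟨?_, hint, hmin.symm⟩
  rw [IntermediateField.adjoin.finrank hint, ← hmin, Polynomial.natDegree_X_pow_sub_C]

/-- If `y` is outside a subalgebra containing all `p`-th powers, some derivation killing the
subalgebra takes the value `1` at `y`. -/
theorem exists_derivation_eq_one (S : Subalgebra k K) (hS : ∀ z : K, z ^ p ∈ S) {y : K}
    (hy : y ∉ S) : ∃ D : Derivation k K K, (∀ s ∈ S, D s = 0) ∧ D y = 1 := by
  obtain ⟨M₀, hSM, hmax⟩ := zorn_le_nonempty₀ {M : Subalgebra k K | S ≤ M ∧ y ∉ M}
    (fun c hc hchain M hM => by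
      refine ⟨sSup c, ⟨(hc hM).1.trans (le_sSup hM), ?_⟩, fun N hN => le_sSup hN⟩
      intro hmem
      haveI : Nonempty c := ⟨⟨M, hM⟩⟩
      rw [← SetLike.mem_coe, sSup_eq_iSup', Subalgebra.coe_iSup_of_directed
        (directedOn_iff_directed.mp hchain.directedOn)] at hmem
      obtain ⟨⟨N, hN⟩, hyN⟩ := Set.mem_iUnion.mp hmem
      exact (hc hN).2 hyN) S ⟨le_rfl, hy⟩
  obtain ⟨⟨hSM₀, hyM₀⟩, hmax⟩ := hmax
  have hM₀ : ∀ z : K, z ^ p ∈ M₀ := fun z => hSM₀ (hS z)
  let M : IntermediateField k K := M₀.toIntermediateField (inv_mem_of_pow_mem M₀ hM₀)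
  have hyM : y ∉ M := hyM₀
  have hMp : ∀ z : K, z ^ p ∈ M := hM₀
  obtain ⟨hfy, hint, hmin⟩ := finrank_adjoin_simple_of_pow_mem M hyM (hMp y)
  have htop : M⟮y⟯ = ⊤ := by
    rw [eq_top_iff]
    intro z _
    by_cases hz : z ∈ M
    · exact IntermediateField.algebraMap_mem M⟮y⟯ (⟨z, hz⟩ : M)
    obtain ⟨hfz, hintz, -⟩ := finrank_adjoin_simple_of_pow_mem M hz (hMp z)
    have hyz : y ∈ M⟮z⟯ := by
      by_contra hcon
      have hle : M₀ ≤ (M⟮z⟯.restrictScalars k).toSubalgebra := fun w hw =>
        IntermediateField.algebraMap_mem M⟮z⟯ (⟨w, hw⟩ : M)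
      have := hmax ⟨hSM₀.trans hle, hcon⟩ hle
      exact hz (this (IntermediateField.mem_adjoin_simple_self M z))
    have hle : M⟮y⟯ ≤ M⟮z⟯ := IntermediateField.adjoin_simple_le_iff.mpr hyz
    have hfd : FiniteDimensional M M⟮z⟯ := IntermediateField.adjoin.finiteDimensional hintz
    rw [IntermediateField.eq_of_le_of_finrank_eq hle (hfy.trans hfz.symm)]
    exact IntermediateField.mem_adjoin_simple_self M z
  let e : M⟮y⟯ ≃ₐ[M] K := (IntermediateField.equivOfEq htop).trans IntermediateField.topEquiv
  let pb : PowerBasis M K := (IntermediateField.adjoin.powerBasis hint).map e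
  have hgen : pb.gen = y := by simp [pb, e]
  let ε : TrivSqZeroExt K K := TrivSqZeroExt.inl y + TrivSqZeroExt.inr (1 : K)
  have hε : Polynomial.aeval ε (minpoly M pb.gen) = 0 := by
    have halg : algebraMap M (TrivSqZeroExt K K) ⟨y ^ p, hMp y⟩ = TrivSqZeroExt.inl (y ^ p) := rfl
    rw [hgen, hmin, map_sub, map_pow, Polynomial.aeval_X, Polynomial.aeval_C, halg]
    ext
    · simp [ε]
    · rw [TrivSqZeroExt.snd_sub, TrivSqZeroExt.snd_pow, ← Nat.cast_smul_eq_nsmul K p,
        CharP.cast_eq_zero, zero_smul]
      simp
  let f : K →ₐ[M] TrivSqZeroExt K K := pb.lift ε hε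
  have hfy' : f y = ε := by rw [← hgen]; exact pb.lift_gen ε hε
  have hfst : (TrivSqZeroExt.fstHom M K K).comp f = AlgHom.id M K := by
    refine pb.algHom_ext ?_
    rw [hgen]
    show (f y).fst = y
    rw [hfy']; simp [ε]
  have hfst' : ∀ b, (f b).fst = b := fun b => AlgHom.congr_fun hfst b
  let L : K →ₗ[M] K :=
    { toFun := fun b => (f b).snd
      map_add' := fun a b => by simp
      map_smul' := fun a b => by rw [map_smul]; rfl }
  let D : Derivation M K K := Derivation.mk' L fun a b => by
    show (f (a * b)).snd = a • (f b).snd + b • (f a).snd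
    rw [map_mul, TrivSqZeroExt.snd_mul, hfst', hfst', op_smul_eq_smul]
  refine ⟨D.restrictScalars k, fun s hs => ?_, ?_⟩
  · exact D.map_algebraMap (⟨s, hSM₀ hs⟩ : M)
  · show (f y).snd = 1
    simp [hfy', ε]

variable {ι : Type v}

/-- `y` lies in the algebra generated over `k[K^p]` by a set iff `dy` lies in the span of the
differentials. -/
theorem mem_adjoin_iff_D_mem_span (s : Set K) (y : K) :
    y ∈ Algebra.adjoin (pPowerSubalgebra p k K) s ↔
      KaehlerDifferential.D k K y ∈ Submodule.span K (KaehlerDifferential.D k K '' s) := by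
  constructor
  · intro hy
    induction hy using Algebra.adjoin_induction with
    | mem z hz => exact Submodule.subset_span ⟨z, hz, rfl⟩
    | algebraMap r =>
        show KaehlerDifferential.D k K (r : K) ∈ _
        rw [derivation_vanish_pPower _ r.2]; exact zero_mem _
    | add a b _ _ ha hb => rw [map_add]; exact add_mem ha hb
    | mul a b _ _ ha hb =>
        rw [Derivation.leibniz]
        exact add_mem (Submodule.smul_mem _ _ hb) (Submodule.smul_mem _ _ ha)
  · intro hy
    by_contra hcon
    let S : Subalgebra k K := (Algebra.adjoin (pPowerSubalgebra p k K) s).restrictScalars k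
    have hS : ∀ z : K, z ^ p ∈ S := fun z =>
      Subalgebra.algebraMap_mem (Algebra.adjoin (pPowerSubalgebra p k K) s) (pp p k z)
    obtain ⟨D, hD, hDy⟩ := exists_derivation_eq_one S hS (y := y) hcon
    have hzero : ∀ ω ∈ Submodule.span K (KaehlerDifferential.D k K '' s),
        D.liftKaehlerDifferential ω = 0 := by
      intro ω hω
      induction hω using Submodule.span_induction with
      | mem w hw =>
          obtain ⟨z, hz, rfl⟩ := hw
          rw [Derivation.liftKaehlerDifferential_comp_D]
          exact hD z (Algebra.subset_adjoin (R := pPowerSubalgebra p k K) hz)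
      | zero => exact map_zero _
      | add a b _ _ ha hb => rw [map_add, ha, hb, add_zero]
      | smul r a _ ha => rw [map_smul, ha, smul_zero]
    have := hzero _ hy
    rw [Derivation.liftKaehlerDifferential_comp_D, hDy] at this
    exact one_ne_zero this

open MvPolynomial in
theorem isPIndependent_of_linearIndependent {ι : Type u} {x : ι → K}
    (h : LinearIndependent K fun i => KaehlerDifferential.D k K (x i)) :
    IsPIndependent p k x := by
  classical
  have hD : ∀ i, ∃ D : Derivation k K K, ∀ j, D (x j) = if j = i then 1 else 0 := by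
    intro i
    obtain ⟨g, hg⟩ := LinearMap.exists_leftInverse_of_injective
      (Finsupp.linearCombination K fun i => KaehlerDifferential.D k K (x i))
      (LinearMap.ker_eq_bot.mpr h)
    let f : Ω[K⁄k] →ₗ[K] K := (Finsupp.lapply i).comp g
    refine ⟨f.compDer (KaehlerDifferential.D k K), fun j => ?_⟩
    have hb := LinearMap.congr_fun hg (Finsupp.single j 1)
    rw [LinearMap.comp_apply, Finsupp.linearCombination_single, one_smul] at hb
    show f (KaehlerDifferential.D k K (x j)) = _
    simp only [f, LinearMap.comp_apply, hb, LinearMap.id_apply, Finsupp.lapply_apply]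
    exact Finsupp.single_apply
  choose D hD using hD
  let P := pPowerSubalgebra p k K
  have hderiv : ∀ (i : ι) (q : MvPolynomial ι P), D i (aeval x q) = aeval x (pderiv i q) := by
    intro i q
    induction q using MvPolynomial.induction_on with
    | C r => simp [derivation_vanish_pPower (D i) r.2, Subalgebra.algebraMap_def]
    | add a b ha hb => simp [ha, hb]
    | mul_X a j ha =>
        rw [map_mul, aeval_X, Derivation.leibniz, ha, hD, Derivation.leibniz, pderiv_X]
        simp [Pi.single_apply, smul_eq_mul, mul_comm, eq_comm]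
        split_ifs <;> simp
  have key : ∀ (n : ℕ) (q : MvPolynomial ι P), q.totalDegree ≤ n →
      (∀ d ∈ q.support, ∀ i, d i < p) → aeval x q = 0 → q = 0 := by
    intro n
    induction n with
    | zero =>
        intro q hq _ h0
        rw [Nat.le_zero, totalDegree_eq_zero_iff_eq_C] at hq
        rw [hq, aeval_C] at h0
        rw [hq, show coeff 0 q = 0 from Subtype.ext h0, map_zero]
    | succ n ih =>
        intro q hq hred h0
        have hz : ∀ i, pderiv i q = 0 := by
          intro i
          refine ih _ ?_ ?_ (by rw [← hderiv, h0, map_zero])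
          · refine Nat.le_of_lt_succ (lt_of_lt_of_le ?_ (le_refl (n + 1)))
            refine Nat.lt_succ_of_le ?_
            rw [totalDegree, Finset.sup_le_iff]
            intro d hd
            rw [mem_support_iff, coeff_pderiv] at hd
            have hmem : d + Finsupp.single i 1 ∈ q.support := by
              rw [mem_support_iff]; exact left_ne_zero_of_mul hd
            have := le_totalDegree hmem
            rw [Finsupp.sum_add_index' (by simp) (by simp), Finsupp.sum_single_index (by simp)] at this
            omega
          · intro d hd j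
            rw [mem_support_iff, coeff_pderiv] at hd
            have hmem : d + Finsupp.single i 1 ∈ q.support := by
              rw [mem_support_iff]; exact left_ne_zero_of_mul hd
            have := hred _ hmem j
            rw [Finsupp.add_apply] at this
            omega
        have hC : q = C (coeff 0 q) := by
          rw [← totalDegree_eq_zero_iff_eq_C, ← Nat.le_zero, totalDegree, Finset.sup_le_iff]
          intro d hd
          have hd0 : d = 0 := by
            by_contra hne
            obtain ⟨i, hi⟩ := Finsupp.ne_iff.mp hne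
            simp only [Finsupp.coe_zero, Pi.zero_apply] at hi
            obtain ⟨d', rfl⟩ : ∃ d', d = d' + Finsupp.single i 1 :=
              ⟨d - Finsupp.single i 1, (tsub_add_cancel_of_le (by
                rw [Finsupp.single_le_iff]; omega)).symm⟩
            have h1 := congrArg (coeff d') (hz i)
            rw [coeff_pderiv, coeff_zero] at h1
            have hu : ((d' i + 1 : ℕ) : K) ≠ 0 := by
              intro hcast
              rw [CharP.cast_eq_zero_iff K p] at hcast
              have := hred _ hd i
              simp at this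
              exact absurd (Nat.le_of_dvd (by omega) hcast) (by omega)
            have h2 := congrArg (Subtype.val) h1
            push_cast at h2
            rcases mul_eq_zero.mp h2 with h3 | h3
            · exact mem_support_iff.mp hd (Subtype.ext h3)
            · exact hu (by push_cast; exact h3)
          simp [hd0]
        rw [hC, aeval_C] at h0
        rw [hC, show coeff 0 q = 0 from Subtype.ext h0, map_zero]
  rw [IsPIndependent, linearIndependent_iff]
  intro l hl
  let q : MvPolynomial ι P := ∑ e ∈ l.support, monomial e.1 (l e)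
  have hcoeff : ∀ e : {e : ι →₀ ℕ // ∀ i, e i < p}, coeff e.1 q = l e := by
    intro e
    simp only [q, coeff_sum, coeff_monomial]
    rw [Finset.sum_eq_single e (fun b _ hb => if_neg fun hc => hb (Subtype.ext hc))
      (fun hne => by simp [Finsupp.notMem_support_iff.mp hne]), if_pos rfl]
  have hq : q = 0 := by
    refine key _ q le_rfl (fun d hd i => ?_) ?_
    · obtain ⟨e, _, he⟩ := Finset.mem_biUnion.mp (MvPolynomial.support_sum hd)
      obtain rfl : d = e.1 := Finset.mem_singleton.mp (support_monomial_subset he)
      exact e.2 i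
    · rw [← hl, Finsupp.linearCombination_apply, Finsupp.sum, map_sum]
      refine Finset.sum_congr rfl fun e _ => ?_
      rw [aeval_monomial, Algebra.smul_def]; rfl
  ext e : 1
  rw [← hcoeff, hq, coeff_zero, Finsupp.zero_apply]

variable {ι : Type u} {x : ι → K}

theorem isPIndependent_notMem_adjoin (h : IsPIndependent p k x) (a : ι) :
    x a ∉ Algebra.adjoin (pPowerSubalgebra p k K) (x '' {b | b ≠ a}) := by
  classical
  intro hmem
  rw [Set.image_eq_range, Algebra.adjoin_range_eq_range_aeval] at hmem
  obtain ⟨f, hf⟩ := hmem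
  let f' := MvPolynomial.rename (Subtype.val : {b | b ≠ a} → ι) f
  let ea : {e : ι →₀ ℕ // ∀ i, e i < p} := ⟨Finsupp.single a 1, fun i => by
    rw [Finsupp.single_apply]; split_ifs <;> [exact hp.out.one_lt; exact hp.out.pos]⟩
  have key : reduce x f' = Finsupp.single ea 1 := h (by
    rw [linearCombination_reduce, Finsupp.linearCombination_single, one_smul]
    simp only [f', MvPolynomial.aeval_rename]
    refine hf.trans ?_
    simp [ea, pMonomial])
  have h0 : reduce x f' ea = 0 := by
    simp only [reduce, Finsupp.finsetSum_apply]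
    refine Finset.sum_eq_zero fun d hd => ?_
    rw [Finsupp.single_eq_of_ne]
    intro hc
    have hda : d a = 0 := by
      obtain ⟨d', _, rfl⟩ : ∃ d' ∈ f.support, Finsupp.mapDomain Subtype.val d' = d := by
        have := MvPolynomial.support_rename_of_injective Subtype.val_injective (p := f)
        rw [this, Finset.mem_image] at hd
        exact hd
      exact Finsupp.mapDomain_notin_range d' a (by simp)
    have := DFunLike.congr_fun (congrArg Subtype.val hc) a
    simp [ea, dmod, hda] at this
  rw [key, Finsupp.single_eq_same] at h0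
  exact one_ne_zero h0

theorem isPIndependent_iff_linearIndependent :
    IsPIndependent p k x ↔ LinearIndependent K fun i => KaehlerDifferential.D k K (x i) := by
  refine ⟨fun h => ?_, isPIndependent_of_linearIndependent⟩
  refine linearIndependent_iff_notMem_span.mpr fun a => ?_
  have : (fun i => KaehlerDifferential.D k K (x i)) '' (Set.univ \ {a}) =
      KaehlerDifferential.D k K '' (x '' {b | b ≠ a}) := by
    rw [Set.image_image]; congr 1; ext b; simp
  rw [this, ← mem_adjoin_iff_D_mem_span]
  exact isPIndependent_notMem_adjoin h a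

theorem isPGenerating_iff_span :
    IsPGenerating p k x ↔
      Submodule.span K (Set.range fun i => KaehlerDifferential.D k K (x i)) = ⊤ := by
  rw [isPGenerating_iff_adjoin, show (Set.range fun i => KaehlerDifferential.D k K (x i)) =
    KaehlerDifferential.D k K '' Set.range x from (Set.range_comp _ _)]
  constructor
  · intro h
    rw [eq_top_iff, ← KaehlerDifferential.span_range_derivation k K, Submodule.span_le]
    rintro _ ⟨y, rfl⟩
    exact (mem_adjoin_iff_D_mem_span (p := p) _ y).mp (h ▸ trivial)
  · intro h
    rw [eq_top_iff]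
    intro y _
    exact (mem_adjoin_iff_D_mem_span (p := p) _ y).mpr (h ▸ trivial)

theorem exists_isPBasis_between (S L : Set K) (hLS : L ⊆ S)
    (hS : IsPGenerating p k (Subtype.val : S → K)) (hL : IsPIndependent p k (Subtype.val : L → K)) :
    ∃ T : Set K, L ⊆ T ∧ T ⊆ S ∧ IsPBasis p k (Subtype.val : T → K) := by
  let d : K → Ω[K⁄k] := KaehlerDifferential.D k K
  have hLi : LinearIndepOn K d L := isPIndependent_iff_linearIndependent.mp hL
  obtain ⟨T, hTS, hLT, hspan, hTi⟩ := exists_linearIndepOn_extension hLi hLS
  refine ⟨T, hLT, hTS, isPIndependent_iff_linearIndependent.mpr hTi, isPGenerating_iff_span.mpr ?_⟩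
  have hS' := isPGenerating_iff_span.mp hS
  rw [eq_top_iff, ← hS', Submodule.span_le]
  rintro _ ⟨z, rfl⟩
  have := hspan ⟨z.1, z.2, rfl⟩
  rwa [Set.image_eq_range] at this

variable (p k K) in
theorem exists_isPBasis :
    ∃ T : Set K, IsPBasis p k (Subtype.val : T → K) := by
  obtain ⟨T, -, -, hT⟩ := exists_isPBasis_between (p := p) (k := k) (Set.univ : Set K) ∅
    (Set.empty_subset _)
    (isPGenerating_iff_span.mpr (by
      rw [eq_top_iff, ← KaehlerDifferential.span_range_derivation k K]
      refine Submodule.span_mono ?_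
      rintro _ ⟨y, rfl⟩
      exact ⟨⟨y, trivial⟩, rfl⟩))
    (isPIndependent_iff_linearIndependent.mpr linearIndependent_empty_type)
  exact ⟨T, hT⟩

theorem isPBasis_iff_basis :
    IsPBasis p k x ↔
      ∃ b : Module.Basis ι K (Ω[K⁄k]), ∀ i, b i = KaehlerDifferential.D k K (x i) := by
  refine ⟨exists_basis_kaehler, fun ⟨b, hb⟩ => ?_⟩
  have hb' : (fun i => KaehlerDifferential.D k K (x i)) = b := funext fun i => (hb i).symm
  exact ⟨isPIndependent_iff_linearIndependent.mpr (hb' ▸ b.linearIndependent),
    isPGenerating_iff_span.mpr (hb' ▸ b.span_eq)⟩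

end Groth.Ega41Sep
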