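import Groth.Prelude.Def_EGA41
import Mathlib.RingTheory.MvPolynomial.Basic
import Mathlib.Algebra.MvPolynomial.PDeriv
import Mathlib.Algebra.CharP.Lemmas
import Mathlib.RingTheory.TensorProduct.Maps
import Mathlib.Algebra.TrivSqZeroExt.Basic

/-!
`p`-bases of rings of characteristic `p`: universal property, derivations, differentials.
-/

universe u v w

namespace Groth.Ega41Sep

open MvPolynomial EGA41

variable {p : ℕ} {A B : Type u} [CommRing A] [CommRing B] [Algebra A B] {ι : Type u} {x : ι → B}

variable (p) (A) in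
lemma pow_mem_pPower (b : B) : b ^ p ∈ pPowerSubalgebra p A B :=
  Algebra.subset_adjoin ⟨b, rfl⟩

/-- `b ^ p` as an element of `A[B^p]`. -/
def pp (p : ℕ) (A : Type u) [CommRing A] [Algebra A B] (b : B) : pPowerSubalgebra p A B :=
  ⟨b ^ p, pow_mem_pPower p A b⟩

@[simp] lemma coe_pp (b : B) : (pp p A b : B) = b ^ p := rfl

@[simp] lemma algebraMap_pp (b : B) : algebraMap (pPowerSubalgebra p A B) B (pp p A b) = b ^ p := rfl

section Reduce

variable [hp : Fact p.Prime]

variable (p) in
/-- Exponent vector mod `p`. -/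
noncomputable def dmod (d : ι →₀ ℕ) : {e : ι →₀ ℕ // ∀ i, e i < p} :=
  ⟨d.mapRange (· % p) (Nat.zero_mod p), fun i => by
    simpa using Nat.mod_lt _ hp.out.pos⟩

lemma prod_pow_split {R : Type*} [CommMonoid R] (y : ι → R) (d : ι →₀ ℕ) :
    (d.prod fun i n => (y i ^ p) ^ (n / p)) * ((dmod p d).1.prod fun i n => y i ^ n) =
      d.prod fun i n => y i ^ n := by
  rw [show (dmod p d).1 = d.mapRange (· % p) (Nat.zero_mod p) from rfl,
    Finsupp.prod_mapRange_index (fun i => pow_zero _), ← Finsupp.prod_mul]
  refine Finsupp.prod_congr fun i _ => ?_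
  rw [← pow_mul, ← pow_add, Nat.div_add_mod]

variable (x) in
/-- Reduce a polynomial over `A[B^p]` to reduced monomials. -/
noncomputable def reduce (f : MvPolynomial ι (pPowerSubalgebra p A B)) :
    {e : ι →₀ ℕ // ∀ i, e i < p} →₀ pPowerSubalgebra p A B :=
  ∑ d ∈ f.support,
    Finsupp.single (dmod p d) (f.coeff d * d.prod fun i n => pp p A (x i) ^ (n / p))

lemma linearCombination_reduce (f : MvPolynomial ι (pPowerSubalgebra p A B)) :
    Finsupp.linearCombination (pPowerSubalgebra p A B)
      (fun e : {e : ι →₀ ℕ // ∀ i, e i < p} => pMonomial x e.1) (reduce x f) = aeval x f := by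
  conv_rhs => rw [aeval_def, eval₂_eq]
  rw [reduce, map_sum]
  refine Finset.sum_congr rfl fun d _ => ?_
  rw [Finsupp.linearCombination_single, Algebra.smul_def, map_mul, map_finsuppProd, mul_assoc]
  simp only [map_pow, algebraMap_pp]
  rw [pMonomial, prod_pow_split x d]
  rfl

lemma eval₂_reduce {E : Type w} [CommRing E] (φ : pPowerSubalgebra p A B →+* E) (z : ι → E)
    (hz : ∀ i, z i ^ p = φ (pp p A (x i))) (f : MvPolynomial ι (pPowerSubalgebra p A B)) :
    (reduce x f).sum (fun e c => φ c * e.1.prod fun i n => z i ^ n) = eval₂ φ z f := by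
  rw [eval₂_eq, reduce, ← Finsupp.sum_finsetSum_index (by simp)
    (by intros; rw [map_add, add_mul])]
  refine Finset.sum_congr rfl fun d _ => ?_
  rw [Finsupp.sum_single_index (by simp), map_mul, map_finsuppProd, mul_assoc]
  simp only [map_pow, ← hz]
  rw [prod_pow_split z d]
  rfl

omit hp in
lemma pMonomial_mem_adjoin (e : ι →₀ ℕ) :
    pMonomial x e ∈ Algebra.adjoin (pPowerSubalgebra p A B) (Set.range x) :=
  prod_mem fun i _ => pow_mem (Algebra.subset_adjoin (Set.mem_range_self i)) _

lemma isPGenerating_iff_adjoin :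
    IsPGenerating p A x ↔ Algebra.adjoin (pPowerSubalgebra p A B) (Set.range x) = ⊤ := by
  constructor
  · intro h
    rw [← Algebra.toSubmodule_eq_top, eq_top_iff, ← show _ = ⊤ from h, Submodule.span_le]
    rintro _ ⟨e, rfl⟩
    exact pMonomial_mem_adjoin e.1
  · intro h
    rw [IsPGenerating, eq_top_iff]
    intro b _
    obtain ⟨f, rfl⟩ : b ∈ (aeval x : MvPolynomial ι (pPowerSubalgebra p A B) →ₐ[_] B).range := by
      rw [← Algebra.adjoin_range_eq_range_aeval, h]; trivial
    rw [Finsupp.mem_span_range_iff_exists_finsupp]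
    exact ⟨reduce x f, linearCombination_reduce f⟩

lemma aeval_surjective (hx : IsPGenerating p A x) :
    Function.Surjective (aeval x : MvPolynomial ι (pPowerSubalgebra p A B) →ₐ[_] B) := by
  rw [← AlgHom.range_eq_top, ← Algebra.adjoin_range_eq_range_aeval,
    ← isPGenerating_iff_adjoin]
  exact hx

lemma hom_ext (hx : IsPGenerating p A x) {E : Type w} [CommRing E] {f g : B →+* E}
    (h₀ : ∀ r : pPowerSubalgebra p A B, f r = g r) (h : ∀ i, f (x i) = g (x i)) : f = g := by
  refine RingHom.ext fun b => ?_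
  obtain ⟨q, rfl⟩ := aeval_surjective hx b
  exact RingHom.congr_fun (MvPolynomial.ringHom_ext
    (f := f.comp (aeval x : MvPolynomial ι _ →ₐ[_] B).toRingHom)
    (g := g.comp (aeval x : MvPolynomial ι _ →ₐ[_] B).toRingHom)
    (fun r => by simpa using h₀ r) (fun i => by simpa using h i)) q

/-- Universal property of a `p`-basis. -/
theorem existsUnique_lift (hx : IsPBasis p A x) {E : Type w} [CommRing E]
    (φ : pPowerSubalgebra p A B →+* E) (z : ι → E) (hz : ∀ i, z i ^ p = φ (pp p A (x i))) :
    ∃! f : B →+* E, (∀ r : pPowerSubalgebra p A B, f r = φ r) ∧ ∀ i, f (x i) = z i := by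
  let π : MvPolynomial ι (pPowerSubalgebra p A B) →ₐ[pPowerSubalgebra p A B] B := aeval x
  have hker : RingHom.ker π.toRingHom ≤ RingHom.ker (eval₂Hom φ z) := by
    intro f hf
    have h0 : reduce x f = 0 := hx.1 (a₁ := reduce x f) (a₂ := 0)
      (by rw [linearCombination_reduce, map_zero]; exact hf)
    rw [RingHom.mem_ker, coe_eval₂Hom, ← eval₂_reduce φ z hz f, h0, Finsupp.sum_zero_index]
  let f := RingHom.liftOfSurjective π.toRingHom (aeval_surjective hx.2) ⟨eval₂Hom φ z, hker⟩
  have hf : ∀ q, f (π q) = eval₂Hom φ z q := fun q => by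
    simp only [f, RingHom.liftOfSurjective]
    exact RingHom.liftOfRightInverse_comp_apply _ _ _ _ q
  refine ⟨f, ⟨fun r => ?_, fun i => ?_⟩, fun g hg => ?_⟩
  · simpa [π] using hf (C r)
  · simpa [π] using hf (X i)
  · refine hom_ext hx.2 (fun r => ?_) (fun i => ?_)
    · rw [hg.1]; simpa [π] using (hf (C r)).symm
    · rw [hg.2]; simpa [π] using (hf (X i)).symm

end Reduce

section Derivation

variable [hp : Fact p.Prime] [CharP B p] {M : Type*} [AddCommGroup M] [Module B M]

omit hp in
lemma derivation_pow_char {R : Type*} [CommRing R] [Algebra R B] [Module R M]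
    (D : Derivation R B M) (b : B) : D (b ^ p) = 0 := by
  rw [D.leibniz_pow, ← Nat.cast_smul_eq_nsmul B p, CharP.cast_eq_zero, zero_smul]

variable [Module A M]

omit hp in
lemma derivation_vanish_pPower (D : Derivation A B M) {b : B}
    (hb : b ∈ pPowerSubalgebra p A B) : D b = 0 := by
  induction hb using Algebra.adjoin_induction with
  | mem y hy => obtain ⟨c, rfl⟩ := hy; exact derivation_pow_char D c
  | algebraMap r => exact D.map_algebraMap r
  | add y z _ _ hy hz => rw [map_add, hy, hz, add_zero]
  | mul y z _ _ hy hz => rw [D.leibniz, hy, hz, smul_zero, smul_zero, add_zero]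

omit hp in
lemma derivation_map_mul_of_mem (D : Derivation A B M) {r : B}
    (hr : r ∈ pPowerSubalgebra p A B) (b : B) : D (r * b) = r • D b := by
  rw [D.leibniz, derivation_vanish_pPower D hr, smul_zero, add_zero]

end Derivation

section ExistsDerivation

open TrivSqZeroExt

variable [hp : Fact p.Prime] [CharP B p] {M : Type u} [AddCommGroup M] [Module B M]

/-- A derivation can be prescribed on a `p`-basis. -/
theorem existsUnique_derivation (hx : IsPBasis p A x)
    (D₀ : pPowerSubalgebra p A B →+ M)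
    (hmul : ∀ r s : pPowerSubalgebra p A B, D₀ (r * s) = (r : B) • D₀ s + (s : B) • D₀ r)
    (hD₀ : ∀ b : B, D₀ (pp p A b) = 0) (y : ι → M) :
    ∃! D : Derivation ℤ B M, (∀ r : pPowerSubalgebra p A B, D r = D₀ r) ∧ ∀ i, D (x i) = y i := by
  letI : Module Bᵐᵒᵖ M := Module.compHom _ ((RingHom.id B).fromOpposite mul_comm)
  haveI : IsCentralScalar B M := ⟨fun b m => rfl⟩
  have hD1 : D₀ 1 = 0 := by
    have h := hmul 1 1
    rw [mul_one, OneMemClass.coe_one, one_smul] at h
    simpa using h
  let φ : pPowerSubalgebra p A B →+* TrivSqZeroExt B M :=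
    { toFun := fun r => inl (r : B) + inr (D₀ r)
      map_one' := by
        ext
        · simp
        · simp [hD1]
      map_mul' := fun r s => by
        ext
        · simp
        · simp [hmul]
      map_zero' := by ext <;> simp
      map_add' := fun r s => by ext <;> simp }
  have hz : ∀ i, ((inl (x i) + inr (y i) : TrivSqZeroExt B M)) ^ p = φ (pp p A (x i)) := fun i => by
    ext
    · simp [φ]
    · rw [snd_pow, ← Nat.cast_smul_eq_nsmul B p, CharP.cast_eq_zero, zero_smul]
      simp [φ, hD₀]
  obtain ⟨f, ⟨hf₁, hf₂⟩, -⟩ := existsUnique_lift hx φ (fun i => inl (x i) + inr (y i)) hz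
  have hfst : (fstHom ℤ B M).toRingHom.comp f = RingHom.id B := by
    refine hom_ext hx.2 (fun r => ?_) (fun i => ?_)
    · simp [hf₁, φ]
    · simp [hf₂]
  have hfst' : ∀ b, (f b).fst = b := fun b => RingHom.congr_fun hfst b
  let L : B →ₗ[ℤ] M := (AddMonoidHom.mk' (fun b => (f b).snd) (fun a b => by simp)).toIntLinearMap
  refine ⟨Derivation.mk' L (fun a b => ?_), ⟨fun r => ?_, fun i => ?_⟩, fun D hD => ?_⟩
  · show (f (a * b)).snd = a • (f b).snd + b • (f a).snd
    rw [map_mul, snd_mul, hfst', hfst', op_smul_eq_smul]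
  · show (f r).snd = D₀ r
    simp [hf₁, φ]
  · show (f (x i)).snd = y i
    simp [hf₂]
  · let g : B →+* TrivSqZeroExt B M :=
      { toFun := fun b => inl b + inr (D b)
        map_one' := by ext <;> simp
        map_mul' := fun a b => by ext <;> simp
        map_zero' := by ext <;> simp
        map_add' := fun a b => by ext <;> simp }
    have hg : g = f := hom_ext hx.2 (fun r => by simp [g, hf₁, φ, hD.1]) (fun i => by simp [g, hf₂, hD.2])
    refine Derivation.ext fun b => ?_
    show D b = (f b).snd
    rw [← hg]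
    simp [g]

variable [Module A M] [IsScalarTower A B M]

/-- `A`-derivations correspond to families indexed by the `p`-basis. -/
theorem existsUnique_derivation_of_base (hx : IsPBasis p A x) (y : ι → M) :
    ∃! D : Derivation A B M, ∀ i, D (x i) = y i := by
  obtain ⟨D, ⟨hD₁, hD₂⟩, huniq⟩ := existsUnique_derivation (M := M) hx 0 (by simp) (by simp) y
  have hr : ∀ (r : pPowerSubalgebra p A B) (b : B), D ((r : B) * b) = (r : B) • D b := fun r b => by
    rw [D.leibniz, hD₁]; simp
  let DA : B →ₗ[A] M :=
    { toFun := D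
      map_add' := map_add D
      map_smul' := fun a b => by
        rw [RingHom.id_apply, Algebra.smul_def]
        exact (hr ⟨algebraMap A B a, Subalgebra.algebraMap_mem _ a⟩ b).trans (algebraMap_smul B a _) }
  refine ⟨Derivation.mk' DA (fun a b => D.leibniz a b), fun i => hD₂ i, fun D' hD' => ?_⟩
  have h := huniq (D'.restrictScalars ℤ)
    ⟨fun r => by simpa using derivation_vanish_pPower D' r.2, hD'⟩
  refine Derivation.ext fun b => ?_
  exact Derivation.congr_fun h b

theorem exists_basis_kaehler (hx : IsPBasis p A x) :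
    ∃ b : Module.Basis ι B (Ω[B⁄A]), ∀ i, b i = KaehlerDifferential.D A B (x i) := by
  classical
  obtain ⟨D, hD, -⟩ :=
    existsUnique_derivation_of_base (M := ι →₀ B) hx (fun i => Finsupp.single i 1)
  let F : Ω[B⁄A] →ₗ[B] (ι →₀ B) := D.liftKaehlerDifferential
  let G : (ι →₀ B) →ₗ[B] Ω[B⁄A] :=
    Finsupp.linearCombination B (fun i => KaehlerDifferential.D A B (x i))
  have h1 : F.comp G = LinearMap.id := by
    refine Finsupp.lhom_ext' fun i => LinearMap.ext_ring ?_
    simp [F, G, hD]
  have h2 : G.comp F = LinearMap.id := by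
    refine Derivation.liftKaehlerDifferential_unique _ _ ?_
    obtain ⟨E, hE, huniq⟩ :=
      existsUnique_derivation_of_base (M := Ω[B⁄A]) hx (fun i => KaehlerDifferential.D A B (x i))
    refine (huniq _ fun i => ?_).trans (huniq _ fun i => ?_).symm
    · simp [F, G, hD]
    · simp
  refine ⟨Module.Basis.ofRepr (LinearEquiv.ofLinearMap F G h1 h2), fun i => ?_⟩
  simp [G]

end ExistsDerivation

end Groth.Ega41Sep
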