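import Groth.Agent.Ega41Sep.FieldPBasis
import Mathlib.RingTheory.TensorProduct.Basic
import Mathlib.RingTheory.Flat.Basic
import Mathlib.RingTheory.Kaehler.Basic

/-!
Decreasing families of subfields and separation of Kaehler differentials (admissible subfields).
-/

universe u v

namespace Groth.Ega41Sep.Admissible

open EGA41 IntermediateField TensorProduct

section LinAlg

/-- A finite family independent over an intersection of subfields is independent over one of them. -/
theorem exists_linearIndependent {k₀ K : Type u} [Field k₀] [Field K] [Algebra k₀ K] {ι : Type v} [Preorder ι]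
    [IsDirected ι (· ≤ ·)] [Nonempty ι] (F : ι → IntermediateField k₀ K) (hF : Antitone F)
    (F₀ : IntermediateField k₀ K) (hle : ∀ y, (∀ i, y ∈ F i) → y ∈ F₀) :
    ∀ {n : ℕ} (v : Fin n → K), LinearIndependent F₀ v → ∃ i, LinearIndependent (F i) v := by
  intro n
  induction n with
  | zero => intro v _; exact ⟨Classical.arbitrary ι, linearIndependent_empty_type⟩
  | succ n ih =>
    intro v hv
    rw [linearIndependent_finSucc] at hv
    obtain ⟨hv1, hv0⟩ := hv
    obtain ⟨i₀, hi₀⟩ := ih _ hv1
    by_contra hcon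
    push_neg at hcon
    have hsol : ∀ i, i₀ ≤ i → ∃ c : Fin n → K, (∀ j, c j ∈ F i) ∧ ∑ j, c j * Fin.tail v j = v 0 := by
      intro i hi
      have h1 : LinearIndependent (F i) (Fin.tail v) := by
        rw [Fintype.linearIndependent_iff] at hi₀ ⊢
        intro g hg j
        have h := hi₀ (fun l => ⟨(g l : K), hF hi (g l).2⟩) hg j
        exact Subtype.ext (by simpa using congrArg Subtype.val h)
      have h2 : v 0 ∈ Submodule.span (F i) (Set.range (Fin.tail v)) := by
        by_contra hn
        exact hcon i (linearIndependent_finSucc.mpr ⟨h1, hn⟩)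
      obtain ⟨c, hc⟩ := (Submodule.mem_span_range_iff_exists_fun _).mp h2
      exact ⟨fun j => c j, fun j => (c j).2, hc⟩
    obtain ⟨c, hc, hcv⟩ := hsol i₀ le_rfl
    have hall : ∀ j i, c j ∈ F i := by
      intro j i
      obtain ⟨l, hl, hl₀⟩ := exists_ge_ge i i₀
      obtain ⟨c', hc', hcv'⟩ := hsol l hl₀
      rw [Fintype.linearIndependent_iff] at hi₀
      have h := hi₀ (fun m => ⟨c' m, hF hl₀ (hc' m)⟩ - ⟨c m, hc m⟩) (by
        show ∑ m, (c' m - c m) * Fin.tail v m = 0
        simp only [sub_mul, Finset.sum_sub_distrib, hcv, hcv', sub_self]) j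
      have h' : c' j - c j = 0 := congrArg Subtype.val h
      rw [← sub_eq_zero.mp h']
      exact hF hl (hc' j)
    refine hv0 ((Submodule.mem_span_range_iff_exists_fun _).mpr ⟨fun j => ⟨c j, hle _ (hall j)⟩, ?_⟩)
    exact hcv

/-- A finitely generated submodule of `L ⊗ M` comes from a finitely generated submodule of `M`. -/
theorem exists_fg_le_range_baseChange {K L M : Type*} [CommRing K] [CommRing L] [Algebra K L]
    [AddCommGroup M] [Module K M] (U : Submodule L (L ⊗[K] M)) (hU : U.FG) :
    ∃ E : Submodule K M, E.FG ∧ U ≤ LinearMap.range (E.subtype.baseChange L) := by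
  obtain ⟨s, rfl⟩ := hU
  classical
  suffices h : ∀ s : Finset (L ⊗[K] M), ∃ E : Submodule K M, E.FG ∧
      ∀ x ∈ s, x ∈ LinearMap.range (E.subtype.baseChange L) by
    obtain ⟨E, hE, h'⟩ := h s
    exact ⟨E, hE, Submodule.span_le.mpr h'⟩
  have hmono : ∀ E E' : Submodule K M, E ≤ E' →
      LinearMap.range (E.subtype.baseChange L) ≤ LinearMap.range (E'.subtype.baseChange L) := by
    intro E E' h
    rw [← Submodule.subtype_comp_inclusion E E' h, LinearMap.baseChange_comp]
    exact LinearMap.range_comp_le_range _ _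
  have h1 : ∀ x : L ⊗[K] M, ∃ E : Submodule K M, E.FG ∧ x ∈ LinearMap.range (E.subtype.baseChange L) := by
    intro x
    induction x using TensorProduct.induction_on with
    | zero => exact ⟨⊥, Submodule.fg_bot, zero_mem _⟩
    | tmul l m =>
      refine ⟨Submodule.span K {m}, Submodule.fg_span_singleton m,
        ⟨l ⊗ₜ ⟨m, Submodule.mem_span_singleton_self m⟩, ?_⟩⟩
      simp [LinearMap.baseChange_tmul]
    | add x y hx hy =>
      obtain ⟨E, hE, hx⟩ := hx
      obtain ⟨E', hE', hy⟩ := hy
      exact ⟨E ⊔ E', hE.sup hE', add_mem (hmono _ _ le_sup_left hx) (hmono _ _ le_sup_right hy)⟩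
  intro s
  induction s using Finset.induction_on with
  | empty => exact ⟨⊥, Submodule.fg_bot, by simp⟩
  | insert a t _ ih =>
    obtain ⟨E, hE, hE'⟩ := ih
    obtain ⟨F, hF, hF'⟩ := h1 a
    refine ⟨E ⊔ F, hE.sup hF, ?_⟩
    intro x hx
    rcases Finset.mem_insert.mp hx with rfl | hx
    · exact hmono _ _ le_sup_right hF'
    · exact hmono _ _ le_sup_left (hE' x hx)

/-- Membership in an infimum of intermediate fields. -/
theorem mem_iInf_field {k₀ K : Type*} [Field k₀] [Field K] [Algebra k₀ K] {ι : Sort*}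
    {F : ι → IntermediateField k₀ K} {y : K} : (y ∈ ⨅ i, F i) ↔ ∀ i, y ∈ F i := by
  rw [← SetLike.mem_coe, IntermediateField.coe_iInf]; simp

end LinAlg

variable {p : ℕ} [hp : Fact p.Prime] {k₀ K : Type u} [Field k₀] [Field K] [Algebra k₀ K] [CharP K p]

local notation "P₀" => IntermediateField.adjoin k₀ (Set.range fun y : K => y ^ p)

theorem mem_pPower_iff (y : K) : y ∈ pPowerSubalgebra p k₀ K ↔ y ∈ P₀ := by
  refine ⟨fun h => IntermediateField.algebra_adjoin_le_adjoin k₀ _ h, fun h => ?_⟩
  have hpow : ∀ z : K, z ^ p ∈ pPowerSubalgebra p k₀ K := fun z => pow_mem_pPower p _ z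
  have hle : P₀ ≤ (pPowerSubalgebra p k₀ K).toIntermediateField (inv_mem_of_pow_mem _ hpow) :=
    IntermediateField.adjoin_le_iff.mpr (by rintro _ ⟨z, rfl⟩; exact hpow z)
  exact hle h

theorem mem_pPower_iff_sup (k' : IntermediateField k₀ K) (y : K) :
    y ∈ pPowerSubalgebra p k' K ↔ y ∈ k' ⊔ P₀ := by
  constructor
  · intro h
    induction h using Algebra.adjoin_induction with
    | mem z hz => exact (le_sup_right : P₀ ≤ _) (IntermediateField.subset_adjoin k₀ _ hz)
    | algebraMap r => exact (le_sup_left : k' ≤ k' ⊔ P₀) r.2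
    | add a b _ _ ha hb => exact add_mem ha hb
    | mul a b _ _ ha hb => exact mul_mem ha hb
  · intro h
    let S : Subalgebra k₀ K := (pPowerSubalgebra p k' K).restrictScalars k₀
    have hpow : ∀ z : K, z ^ p ∈ S := fun z => pow_mem_pPower p _ z
    have hle : k' ⊔ P₀ ≤ S.toIntermediateField (inv_mem_of_pow_mem S hpow) := by
      refine sup_le (fun z hz => ?_) (IntermediateField.adjoin_le_iff.mpr (by rintro _ ⟨z, rfl⟩; exact hpow z))
      exact (pPowerSubalgebra p k' K).algebraMap_mem (⟨z, hz⟩ : k')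
    exact hle h

theorem D_eq_zero_iff (y : K) :
    KaehlerDifferential.D k₀ K y = 0 ↔ y ∈ pPowerSubalgebra p k₀ K := by
  refine ⟨fun h => ?_, fun h => derivation_vanish_pPower _ h⟩
  have := (mem_adjoin_iff_D_mem_span (p := p) (k := k₀) (∅ : Set K) y).mpr (h ▸ zero_mem _)
  rw [Algebra.adjoin_empty] at this
  obtain ⟨r, rfl⟩ := Algebra.mem_bot.mp this
  exact r.2

variable {ι : Type u} [Preorder ι] [IsDirected ι (· ≤ ·)] [Nonempty ι] (k : ι → IntermediateField k₀ K)

/-- Key separation statement. -/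
theorem exists_map_injOn (hk : Antitone k) (h : (⨅ i, k i ⊔ P₀) = P₀) (E : Submodule K Ω[K⁄k₀]) (hE : E.FG) :
    ∃ i, ∀ ω ∈ E, KaehlerDifferential.map k₀ (k i) K K ω = 0 → ω = 0 := by
  classical
  obtain ⟨T, hT⟩ := exists_isPBasis p k₀ K
  obtain ⟨b, hb⟩ := isPBasis_iff_basis.mp hT
  obtain ⟨G, rfl⟩ := hE
  let S : Finset T := G.biUnion fun g => (b.repr g).support
  let x : S → K := fun s => s.1.1
  have hEx : Submodule.span K (G : Set Ω[K⁄k₀]) ≤
      Submodule.span K (Set.range fun s : S => KaehlerDifferential.D k₀ K (x s)) := by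
    refine Submodule.span_le.mpr fun g hg => ?_
    rw [← b.linearCombination_repr g, Finsupp.linearCombination_apply]
    refine Submodule.sum_mem _ fun t ht => Submodule.smul_mem _ _ (Submodule.subset_span ?_)
    exact ⟨⟨t, Finset.mem_biUnion.mpr ⟨g, hg, ht⟩⟩, (hb t).symm⟩
  have hxi : IsPIndependent p k₀ x := by
    refine isPIndependent_of_linearIndependent ?_
    have := b.linearIndependent.comp (fun s : S => (s : T)) Subtype.val_injective
    convert this using 1
    ext s; exact (hb s.1).symm
  -- the monomials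
  haveI : Finite {e : S →₀ ℕ // ∀ i, e i < p} :=
    Finite.of_injective (fun e => fun s => (⟨e.1 s, e.2 s⟩ : Fin p)) fun e e' h =>
      Subtype.ext (Finsupp.ext fun s => congrArg Fin.val (congrFun h s))
  obtain ⟨n, ⟨e⟩⟩ := Finite.exists_equiv_fin {e : S →₀ ℕ // ∀ i, e i < p}
  let v : Fin n → K := fun j => pMonomial x (e.symm j).1
  have hv : LinearIndependent P₀ v := by
    have h1 : LinearIndependent (pPowerSubalgebra p k₀ K) v := LinearIndependent.comp hxi e.symm e.symm.injective
    rw [Fintype.linearIndependent_iff] at h1 ⊢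
    intro g hg j
    have := h1 (fun l => ⟨g l, (mem_pPower_iff _).mpr (g l).2⟩) hg j
    exact Subtype.ext (by simpa using congrArg Subtype.val this)
  obtain ⟨i, hi⟩ := exists_linearIndependent (fun i => k i ⊔ P₀)
    (fun _ _ hij => sup_le_sup_right (hk hij) _) P₀
    (fun y hy => by rw [← h]; exact mem_iInf_field.mpr hy) v hv
  refine ⟨i, fun ω hω h0 => ?_⟩
  have hxk : IsPIndependent p (k i) x := by
    have h1 : LinearIndependent (pPowerSubalgebra p (k i) K) v := by
      rw [Fintype.linearIndependent_iff] at hi ⊢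
      intro g hg j
      have := hi (fun l => ⟨g l, (mem_pPower_iff_sup _ _).mp (g l).2⟩) hg j
      exact Subtype.ext (by simpa using congrArg Subtype.val this)
    have h2 := LinearIndependent.comp h1 e e.injective
    have he : (fun a => pMonomial x a.1) = v ∘ e := by ext a; simp [v]
    unfold IsPIndependent
    rw [he]; exact h2
  have hli := (isPIndependent_iff_linearIndependent.mp hxk)
  obtain ⟨c, rfl⟩ := (Submodule.mem_span_range_iff_exists_fun K).mp (hEx hω)
  simp only [map_sum, map_smul, KaehlerDifferential.map_D, Algebra.algebraMap_self, RingHom.id_apply] at h0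
  have hc := Fintype.linearIndependent_iff.mp hli c h0
  simp [hc]

theorem forall_eq_zero_of_iInf (hk : Antitone k) (h : (⨅ i, k i ⊔ P₀) = P₀) {L : Type u} [Field L] [Algebra K L]
    (U : Submodule L (L ⊗[K] Ω[K⁄k₀])) (hU : U.FG) :
    ∃ i, ∀ ω ∈ U, ((KaehlerDifferential.map k₀ (k i) K K).restrictScalars K).baseChange L ω = 0 → ω = 0 := by
  obtain ⟨E, hE, hUE⟩ := exists_fg_le_range_baseChange U hU
  obtain ⟨i, hi⟩ := exists_map_injOn k hk h E hE
  refine ⟨i, fun ω hω h0 => ?_⟩
  obtain ⟨η, rfl⟩ := hUE hω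
  have hinj : Function.Injective (((KaehlerDifferential.map k₀ (k i) K K).restrictScalars K) ∘ₗ E.subtype) := by
    rw [← LinearMap.ker_eq_bot, LinearMap.ker_eq_bot']
    rintro ⟨e, he⟩ he0
    exact Subtype.ext (hi e he he0)
  have h2 := Module.Flat.lTensor_preserves_injective_linearMap (M := L) _ hinj
  have h3 : ((((KaehlerDifferential.map k₀ (k i) K K).restrictScalars K) ∘ₗ E.subtype).baseChange L) η = 0 := by
    rw [LinearMap.baseChange_comp]; exact h0
  have : η = 0 := h2 (h3.trans (map_zero _).symm)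
  rw [this, map_zero]

theorem iInf_eq_iff :
    (⨅ i, k i ⊔ P₀) = P₀ ↔ ∀ y : K, (∀ i, KaehlerDifferential.D (k i) K y = 0) →
      KaehlerDifferential.D k₀ K y = 0 := by
  have h1 : ∀ i y, KaehlerDifferential.D (k i) K y = 0 ↔ y ∈ k i ⊔ P₀ := fun i y => (D_eq_zero_iff (p := p) (k₀ := k i) y).trans (mem_pPower_iff_sup (k i) y)
  simp only [h1, D_eq_zero_iff (p := p), mem_pPower_iff]
  constructor
  · intro h y hy; rw [← h]; exact mem_iInf_field.mpr hy
  · intro h
    exact le_antisymm (fun y hy => h y (mem_iInf_field.mp hy))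
      (le_iInf fun i => le_sup_right)

/-- For `k' ≤ k''` the map to `Ω_{K/k''}` factors through the map to `Ω_{K/k'}`. -/
theorem exists_factor {k₀ K : Type u} [Field k₀] [Field K] [Algebra k₀ K] (k' k'' : IntermediateField k₀ K) (h : k' ≤ k'') :
    ∃ g : Ω[K⁄k'] →ₗ[K] Ω[K⁄k''],
      g ∘ₗ KaehlerDifferential.map k₀ k' K K = KaehlerDifferential.map k₀ k'' K K := by
  let d₀ := KaehlerDifferential.D k'' K
  let lin : K →ₗ[k'] Ω[K⁄k''] :=
    { toFun := d₀
      map_add' := fun a b => map_add d₀ a b
      map_smul' := fun c a => by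
        have hc : d₀ (c : K) = 0 := d₀.map_algebraMap (⟨c, h c.2⟩ : k'')
        show d₀ ((c : K) * a) = (c : K) • d₀ a
        rw [Derivation.leibniz, hc, smul_zero, add_zero] }
  let d : Derivation k' K Ω[K⁄k''] := Derivation.mk' lin fun a b => d₀.leibniz a b
  refine ⟨d.liftKaehlerDifferential, LinearMap.ext_on (KaehlerDifferential.span_range_derivation k₀ K) ?_⟩
  rintro _ ⟨y, rfl⟩
  simp only [LinearMap.comp_apply, KaehlerDifferential.map_D, Algebra.algebraMap_self, RingHom.id_apply,
    Derivation.liftKaehlerDifferential_comp_D]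
  rfl

theorem baseChange_map_eq_zero_of_le {k₀ K L : Type u} [Field k₀] [Field K] [Algebra k₀ K] [Field L] [Algebra K L]
    (k' k'' : IntermediateField k₀ K) (h : k' ≤ k'') (ω : L ⊗[K] Ω[K⁄k₀])
    (hω : ((KaehlerDifferential.map k₀ k' K K).restrictScalars K).baseChange L ω = 0) :
    ((KaehlerDifferential.map k₀ k'' K K).restrictScalars K).baseChange L ω = 0 := by
  obtain ⟨g, hg⟩ := exists_factor k' k'' h
  have : (KaehlerDifferential.map k₀ k'' K K).restrictScalars K =
      g ∘ₗ (KaehlerDifferential.map k₀ k' K K).restrictScalars K := LinearMap.ext fun x => (LinearMap.congr_fun hg x).symm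
  rw [this, LinearMap.baseChange_comp, LinearMap.comp_apply, hω, map_zero]

end Groth.Ega41Sep.Admissible
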