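import Mathlib.RingTheory.TensorProduct.Free
import Mathlib.LinearAlgebra.LinearIndependent.Basic
import Mathlib.LinearAlgebra.Basis.Basic

/-! A linear map sending a basis to an independent family is injective. -/

universe u

namespace Groth.Ega41Sep

theorem injective_of_linearIndependent {R M N ι : Type*} [Ring R] [AddCommGroup M] [Module R M] [AddCommGroup N]
    [Module R N] (b : Module.Basis ι R M) (f : M →ₗ[R] N) (h : LinearIndependent R (f ∘ b)) :
    Function.Injective f := by
  rw [← LinearMap.ker_eq_bot, LinearMap.ker_eq_bot']
  intro m hm
  rw [← b.linearCombination_repr m, Finsupp.apply_linearCombination] at hm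
  have h2 : b.repr m = 0 := (linearIndependent_iff.mp h) _ hm
  rw [← b.linearCombination_repr m, h2, map_zero]

end Groth.Ega41Sep
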