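import Groth.Agent.Ega41Sep.PBasis

/-! `p`-bases when the base contains all `p`-th powers. -/

universe u v w

namespace Groth.Ega41Sep

open EGA41

variable {p : ℕ} [hp : Fact p.Prime] {A B : Type u} [CommRing A] [CommRing B] [Algebra A B]

omit hp in
lemma mem_range_of_mem_pPower (hpow : ∀ b : B, b ^ p ∈ Set.range (algebraMap A B)) {b : B}
    (hb : b ∈ pPowerSubalgebra p A B) : ∃ a, algebraMap A B a = b := by
  have : pPowerSubalgebra p A B ≤ ⊥ := Algebra.adjoin_le (by
    rintro _ ⟨c, rfl⟩; exact Algebra.mem_bot.mpr (hpow c))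
  exact Algebra.mem_bot.mp (this hb)

/-- `A[B^p]` is `A` itself. -/
noncomputable def toBase (hinj : Function.Injective (algebraMap A B))
    (hpow : ∀ b : B, b ^ p ∈ Set.range (algebraMap A B)) : pPowerSubalgebra p A B →+* A :=
  (RingEquiv.ofBijective
    ((algebraMap A B).codRestrict (pPowerSubalgebra p A B) (fun a => Subalgebra.algebraMap_mem _ a))
    ⟨fun a b h => hinj (congrArg Subtype.val h), fun r => by
      obtain ⟨a, ha⟩ := mem_range_of_mem_pPower hpow r.2
      exact ⟨a, Subtype.ext ha⟩⟩).symm.toRingHom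

lemma algebraMap_toBase (hinj : Function.Injective (algebraMap A B))
    (hpow : ∀ b : B, b ^ p ∈ Set.range (algebraMap A B)) (r : pPowerSubalgebra p A B) :
    algebraMap A B (toBase hinj hpow r) = r :=
  congrArg Subtype.val ((RingEquiv.ofBijective
    ((algebraMap A B).codRestrict (pPowerSubalgebra p A B) (fun a => Subalgebra.algebraMap_mem _ a))
    ⟨fun a b h => hinj (congrArg Subtype.val h), fun r => by
      obtain ⟨a, ha⟩ := mem_range_of_mem_pPower hpow r.2
      exact ⟨a, Subtype.ext ha⟩⟩).apply_symm_apply r)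

lemma toBase_eq (hinj : Function.Injective (algebraMap A B))
    (hpow : ∀ b : B, b ^ p ∈ Set.range (algebraMap A B)) {r : pPowerSubalgebra p A B} {a : A}
    (h : algebraMap A B a = r) : toBase hinj hpow r = a :=
  hinj ((algebraMap_toBase hinj hpow r).trans h.symm)

theorem existsUnique_algHom (hinj : Function.Injective (algebraMap A B))
    (hpow : ∀ b : B, b ^ p ∈ Set.range (algebraMap A B)) {ι : Type u} {x : ι → B}
    (hx : IsPBasis p A x) {E : Type w} [CommRing E] [Algebra A E] (z : ι → E)
    (hz : ∀ i a, algebraMap A B a = x i ^ p → algebraMap A E a = z i ^ p) :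
    ∃! v : B →ₐ[A] E, ∀ i, v (x i) = z i := by
  obtain ⟨f, ⟨hf₁, hf₂⟩, huniq⟩ :=
    existsUnique_lift hx ((algebraMap A E).comp (toBase hinj hpow)) z
      (fun i => (hz i _ (algebraMap_toBase hinj hpow _)).symm)
  have hc : ∀ a, f (algebraMap A B a) = algebraMap A E a := fun a => by
    have h := hf₁ ⟨algebraMap A B a, Subalgebra.algebraMap_mem _ a⟩
    rw [RingHom.comp_apply, toBase_eq hinj hpow (a := a) rfl] at h
    exact h
  refine ⟨{ f with commutes' := hc }, hf₂, fun g hg => AlgHom.ext fun b => ?_⟩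
  refine RingHom.congr_fun (huniq g.toRingHom ⟨fun r => ?_, hg⟩) b
  show g (r : B) = algebraMap A E (toBase hinj hpow r)
  conv_lhs => rw [← algebraMap_toBase hinj hpow r]
  exact g.commutes _

theorem algHom_ext {ι : Type u} {x : ι → B}
    (hpow : ∀ b : B, b ^ p ∈ Set.range (algebraMap A B)) (hx : IsPGenerating p A x)
    {E : Type w} [CommRing E] [Algebra A E] {f g : B →ₐ[A] E} (h : ∀ i, f (x i) = g (x i)) :
    f = g := by
  refine AlgHom.ext fun b => RingHom.congr_fun
    (hom_ext hx (f := f.toRingHom) (g := g.toRingHom) (fun r => ?_) h) b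
  obtain ⟨a, ha⟩ := mem_range_of_mem_pPower hpow r.2
  show f (r : B) = g (r : B)
  rw [← ha, f.commutes, g.commutes]

end Groth.Ega41Sep
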