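import Groth.Agent.Ega41Sep.PBasisBase
import Mathlib.Data.Finsupp.Basic

/-! `p`-independence in towers. -/

universe u

namespace Groth.Ega41Sep

open EGA41

variable {p : ℕ} [hp : Fact p.Prime] {A B : Type u} [CommRing A] [CommRing B] [Algebra A B]

omit hp in
/-- With all `p`-th powers in the image of `A`, coefficients may be taken in `A`. -/
lemma isPIndependent_iff_base {ι : Type u} {x : ι → B}
    (hpow : ∀ b : B, b ^ p ∈ Set.range (algebraMap A B)) :
    IsPIndependent p A x ↔ ∀ c : {e : ι →₀ ℕ // ∀ i, e i < p} →₀ A,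
      c.sum (fun e a => algebraMap A B a * pMonomial x e.1) = 0 → ∀ e, algebraMap A B (c e) = 0 := by
  classical
  rw [IsPIndependent, linearIndependent_iff]
  let j : A →+* pPowerSubalgebra p A B :=
    (algebraMap A B).codRestrict (pPowerSubalgebra p A B) (fun a => Subalgebra.algebraMap_mem _ a)
  constructor
  · intro h c hc e
    have := h (c.mapRange j (map_zero j)) (by
      rw [Finsupp.linearCombination_apply, Finsupp.sum_mapRange_index (by simp), ← hc]
      rfl)
    exact congrArg Subtype.val (DFunLike.congr_fun this e)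
  · intro h l hl
    choose g hg using fun r : pPowerSubalgebra p A B => mem_range_of_mem_pPower hpow r.2
    let g' : pPowerSubalgebra p A B → A := fun r => if r = 0 then 0 else g r
    have hg' : ∀ r, algebraMap A B (g' r) = r := fun r => by
      simp only [g']; split_ifs with h0 <;> simp [hg, h0]
    have hc := h (l.mapRange g' (if_pos rfl)) (by
      rw [Finsupp.sum_mapRange_index (by simp), ← hl, Finsupp.linearCombination_apply]
      refine Finsupp.sum_congr fun e _ => ?_
      rw [hg', Algebra.smul_def]; rfl)
    ext e : 1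
    refine Subtype.ext ?_
    rw [← hg' (l e)]
    simpa using hc e

variable {C : Type u} [CommRing C] [Algebra A C] [Algebra C B] [IsScalarTower A C B]
  {ι κ : Type u} (x : ι → C) (y : κ → B)

/-- Splitting reduced exponents on a disjoint union. -/
noncomputable def sumEquiv (p : ℕ) : {e : ι ⊕ κ →₀ ℕ // ∀ i, e i < p} ≃
    {e : ι →₀ ℕ // ∀ i, e i < p} × {e : κ →₀ ℕ // ∀ i, e i < p} where
  toFun e := (⟨(Finsupp.sumFinsuppEquivProdFinsupp e.1).1, fun i => e.2 (Sum.inl i)⟩,
    ⟨(Finsupp.sumFinsuppEquivProdFinsupp e.1).2, fun i => e.2 (Sum.inr i)⟩)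
  invFun e := ⟨Finsupp.sumFinsuppEquivProdFinsupp.symm (e.1.1, e.2.1), fun i => by
    cases i with
    | inl i => exact e.1.2 i
    | inr i => exact e.2.2 i⟩
  left_inv e := Subtype.ext (Finsupp.sumFinsuppEquivProdFinsupp.symm_apply_apply e.1)
  right_inv e := by ext <;> simp

omit hp [Algebra A B] [Algebra A C] [IsScalarTower A C B] in
lemma pMonomial_sum (e₁ : ι →₀ ℕ) (e₂ : κ →₀ ℕ) :
    pMonomial (Sum.elim (fun i => algebraMap C B (x i)) y)
      (Finsupp.sumFinsuppEquivProdFinsupp.symm (e₁, e₂)) =
      algebraMap C B (pMonomial x e₁) * pMonomial y e₂ := by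
  simp only [pMonomial, map_finsuppProd, map_pow]
  exact Finsupp.prod_sumElim e₁ e₂ _

variable (hinj : Function.Injective (algebraMap C B)) (hpow : ∀ b : B, b ^ p ∈ Set.range (algebraMap A B))

include hinj hpow in
theorem isPIndependent_sum_iff (hx : IsPBasis p A x) :
    IsPIndependent p C y ↔ IsPIndependent p A (Sum.elim (fun i => algebraMap C B (x i)) y) := by
  classical
  have hpowC : ∀ c : C, c ^ p ∈ Set.range (algebraMap A C) := fun c => by
    obtain ⟨a, ha⟩ := hpow (algebraMap C B c)
    exact ⟨a, hinj (by rw [← IsScalarTower.algebraMap_apply, ha, map_pow])⟩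
  have hpowB : ∀ b : B, b ^ p ∈ Set.range (algebraMap C B) := fun b => by
    obtain ⟨a, ha⟩ := hpow b
    exact ⟨algebraMap A C a, by rw [← IsScalarTower.algebraMap_apply, ha]⟩
  rw [isPIndependent_iff_base hpowB, isPIndependent_iff_base hpow]
  have hx1 := (isPIndependent_iff_base hpowC).mp hx.1
  let eqv := sumEquiv (ι := ι) (κ := κ) p
  have key : ∀ c : {e : ι ⊕ κ →₀ ℕ // ∀ i, e i < p} →₀ A,
      c.sum (fun e a => algebraMap A B a * pMonomial (Sum.elim (fun i => algebraMap C B (x i)) y) e.1) =
      ((c.equivMapDomain eqv).mapDomain Prod.snd).support.sum (fun e₂ =>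
        algebraMap C B (((c.equivMapDomain eqv).sum fun ee a =>
          if ee.2 = e₂ then algebraMap A C a * pMonomial x ee.1.1 else 0)) * pMonomial y e₂.1) +
      (((c.equivMapDomain eqv).support.image Prod.snd) \ ((c.equivMapDomain eqv).mapDomain Prod.snd).support).sum
        (fun e₂ => algebraMap C B (((c.equivMapDomain eqv).sum fun ee a =>
          if ee.2 = e₂ then algebraMap A C a * pMonomial x ee.1.1 else 0)) * pMonomial y e₂.1) := by
    intro c
    rw [add_comm, Finset.sum_sdiff (Finsupp.mapDomain_support)]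
    conv_lhs => rw [← Finsupp.sum_equivMapDomain eqv c
      (fun ee a => algebraMap A B a * pMonomial (Sum.elim (fun i => algebraMap C B (x i)) y) (eqv.symm ee).1) |>.trans
        (Finsupp.sum_congr fun e _ => by rw [Equiv.symm_apply_apply])]
    simp only [Finsupp.sum, map_sum, Finset.sum_mul]
    rw [Finset.sum_comm]
    refine Finset.sum_congr rfl fun ee hee => ?_
    rw [Finset.sum_eq_single ee.2]
    · rw [if_pos rfl, map_mul, ← IsScalarTower.algebraMap_apply, mul_assoc]
      congr 1
      exact pMonomial_sum x y ee.1.1 ee.2.1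
    · intro b _ hb; rw [if_neg (Ne.symm hb), map_zero, zero_mul]
    · intro hne; exact absurd (Finset.mem_image_of_mem _ hee) hne
  constructor
  · intro hy c hc e
    set c' := c.equivMapDomain eqv with hc'
    let d : {e : κ →₀ ℕ // ∀ i, e i < p} →₀ C := Finsupp.onFinset (c'.support.image Prod.snd)
      (fun e₂ => c'.sum fun ee a => if ee.2 = e₂ then algebraMap A C a * pMonomial x ee.1.1 else 0)
      (fun e₂ hne => by
        by_contra hnm
        refine hne (Finset.sum_eq_zero fun ee hee => if_neg fun h => hnm ?_)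
        exact h ▸ Finset.mem_image_of_mem _ hee)
    have hd : d.sum (fun e₂ a => algebraMap C B a * pMonomial y e₂.1) = 0 := by
      rw [Finsupp.onFinset_sum _ (by simp), ← hc, key c, add_comm,
        Finset.sum_sdiff (Finsupp.mapDomain_support)]
    have hd0 : ∀ e₂, d e₂ = 0 := fun e₂ => hinj ((hy d hd e₂).trans (map_zero _).symm)
    have := hd0 (eqv e).2
    simp only [d, Finsupp.onFinset_apply] at this
    let c₁ : {e : ι →₀ ℕ // ∀ i, e i < p} →₀ A :=
      (c'.filter fun ee => ee.2 = (eqv e).2).mapDomain Prod.fst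
    have hc₁ := hx1 c₁ (by
      rw [Finsupp.sum_mapDomain_index (by simp) (by intros; rw [map_add, add_mul]), ← this,
        Finsupp.sum_filter_index]
      simp only [Finsupp.sum, Finset.sum_ite, Finset.sum_const_zero, add_zero, Finsupp.support_filter])
      (eqv e).1
    have hval : c₁ (eqv e).1 = c e := by
      simp only [c₁, Finsupp.mapDomain, Finsupp.sum_apply]
      rw [Finsupp.sum_filter_index, Finset.sum_eq_single (eqv e)]
      · simp [hc', Finsupp.equivMapDomain_apply]
      · intro b hb hne
        simp only [Finsupp.support_filter, Finset.mem_filter] at hb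
        rw [Finsupp.single_eq_of_ne]
        exact fun h => hne (Prod.ext h.symm hb.2)
      · intro hne
        simp only [Finsupp.support_filter, Finset.mem_filter, Finsupp.mem_support_iff, and_true,
          not_not] at hne
        simp [hne]
    rw [IsScalarTower.algebraMap_apply A C B, ← hval, hc₁, map_zero]
  · intro h d hd e₂
    have hgen : ∀ c : C, ∃ f : {e : ι →₀ ℕ // ∀ i, e i < p} →₀ A,
        f.sum (fun e a => algebraMap A C a * pMonomial x e.1) = c := fun c => by
      obtain ⟨l, hl⟩ := Finsupp.mem_span_range_iff_exists_finsupp.mp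
        (show c ∈ Submodule.span _ (Set.range _) by rw [show _ = ⊤ from hx.2]; trivial)
      choose g hg using fun r : pPowerSubalgebra p A C => mem_range_of_mem_pPower hpowC r.2
      refine ⟨Finsupp.onFinset l.support (fun e => if l e = 0 then 0 else g (l e))
        (fun e he => by rw [Finsupp.mem_support_iff]; intro h0; simp [h0] at he), ?_⟩
      rw [Finsupp.onFinset_sum _ (by simp), ← hl]
      refine Finset.sum_congr rfl fun e he => ?_
      rw [if_neg (Finsupp.mem_support_iff.mp he), hg]; exact (Algebra.smul_def (l e) (pMonomial x e.1)).symm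
    choose f hf using hgen
    let c₀ : ({e : ι →₀ ℕ // ∀ i, e i < p} × {e : κ →₀ ℕ // ∀ i, e i < p}) →₀ A :=
      ∑ e₂ ∈ d.support, (f (d e₂)).mapDomain fun e₁ => (e₁, e₂)
    have hc := h (c₀.equivMapDomain eqv.symm) (by
      rw [Finsupp.sum_equivMapDomain, ← Finsupp.sum_finsetSum_index (by simp) (by intros; rw [map_add, add_mul]),
        ← hd]
      refine Finset.sum_congr rfl fun e₂ _ => ?_
      rw [Finsupp.sum_mapDomain_index (by simp) (by intros; rw [map_add, add_mul])]
      beta_reduce
      conv_rhs => rw [← hf (d e₂), map_finsuppSum, Finsupp.sum, Finset.sum_mul]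
      refine Finset.sum_congr rfl fun e₁ _ => ?_
      rw [map_mul, ← IsScalarTower.algebraMap_apply, mul_assoc]
      exact congrArg (algebraMap A B (f (d e₂) e₁) * ·) (pMonomial_sum x y e₁.1 e₂.1))
    by_cases he : e₂ ∈ d.support
    · rw [← hf (d e₂), map_finsuppSum]
      refine Finset.sum_eq_zero fun e₁ _ => ?_
      have hval : c₀ (e₁, e₂) = f (d e₂) e₁ := by
        simp only [c₀, Finsupp.finsetSum_apply]
        rw [Finset.sum_eq_single e₂]
        · exact Finsupp.mapDomain_apply (fun a b hab => congrArg Prod.fst hab) _ _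
        · intro b _ hb
          refine Finsupp.mapDomain_of_notMem_range _ _ ?_
          rintro ⟨a, ha⟩
          exact hb (congrArg Prod.snd ha)
        · intro hne; exact absurd he hne
      have := hc (eqv.symm (e₁, e₂))
      rw [Finsupp.equivMapDomain_apply, Equiv.symm_symm, Equiv.apply_symm_apply, hval] at this
      beta_reduce
      rw [map_mul, ← IsScalarTower.algebraMap_apply, this, zero_mul]
    · rw [Finsupp.notMem_support_iff.mp he, map_zero]

include hinj hpow in
theorem isPGenerating_sum (hx : IsPGenerating p A x) (hy : IsPGenerating p C y) :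
    IsPGenerating p A (Sum.elim (fun i => algebraMap C B (x i)) y) := by
  rw [isPGenerating_iff_adjoin] at hx hy ⊢
  set S := Algebra.adjoin (pPowerSubalgebra p A B)
    (Set.range (Sum.elim (fun i => algebraMap C B (x i)) y))
  have hC : ∀ c : C, algebraMap C B c ∈ S := by
    intro c
    have hc : c ∈ Algebra.adjoin (pPowerSubalgebra p A C) (Set.range x) := hx ▸ trivial
    induction hc using Algebra.adjoin_induction with
    | mem z hz => obtain ⟨i, rfl⟩ := hz; exact Algebra.subset_adjoin ⟨Sum.inl i, rfl⟩
    | algebraMap r =>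
        have hpowC : ∀ c : C, c ^ p ∈ Set.range (algebraMap A C) := fun c => by
          obtain ⟨a, ha⟩ := hpow (algebraMap C B c)
          exact ⟨a, hinj (by rw [← IsScalarTower.algebraMap_apply, ha, map_pow])⟩
        obtain ⟨a, ha⟩ := mem_range_of_mem_pPower hpowC r.2
        show algebraMap C B (r : C) ∈ S
        rw [← ha, ← IsScalarTower.algebraMap_apply]
        exact Subalgebra.algebraMap_mem S (algebraMap A (pPowerSubalgebra p A B) a)
    | add a b _ _ ha hb => rw [map_add]; exact add_mem ha hb
    | mul a b _ _ ha hb => rw [map_mul]; exact mul_mem ha hb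
  rw [eq_top_iff]
  intro b hbtop
  clear hbtop
  have hb : b ∈ Algebra.adjoin (pPowerSubalgebra p C B) (Set.range y) := hy ▸ trivial
  induction hb using Algebra.adjoin_induction with
  | mem z hz => obtain ⟨i, rfl⟩ := hz; exact Algebra.subset_adjoin ⟨Sum.inr i, rfl⟩
  | algebraMap r =>
      have hpowB : ∀ b : B, b ^ p ∈ Set.range (algebraMap C B) := fun b => by
        obtain ⟨a, ha⟩ := hpow b
        exact ⟨algebraMap A C a, by rw [← IsScalarTower.algebraMap_apply, ha]⟩
      obtain ⟨c, hc⟩ := mem_range_of_mem_pPower hpowB r.2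
      show (r : B) ∈ S
      rw [← hc]; exact hC c
  | add a b _ _ ha hb => exact add_mem ha hb
  | mul a b _ _ ha hb => exact mul_mem ha hb

end Groth.Ega41Sep
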