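import Groth.Agent.Ega41Sep.PBasis
import Mathlib.Algebra.Algebra.Epi
import Mathlib.RingTheory.Kaehler.Basic
import Mathlib.RingTheory.Finiteness.Nakayama
import Mathlib.RingTheory.Nilpotent.Lemmas
import Mathlib.RingTheory.IntegralClosure.IsIntegralClosure.Basic

universe u v

namespace Groth.Ega41Sep

open TensorProduct

variable (p : ℕ) [hp : Fact p.Prime] {A : Type v} {B : Type u} [CommRing A] [CommRing B] [Algebra A B]
  [CharP B p] (s : ℕ) (hpow : ∀ b : B, b ^ p ^ s ∈ Set.range (algebraMap A B))

include hpow in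
theorem kaehlerIdeal_le_nilradical : KaehlerDifferential.ideal A B ≤ nilradical (B ⊗[A] B) := by
  rw [← KaehlerDifferential.span_range_eq_ideal, Ideal.span_le]
  rintro _ ⟨b, rfl⟩
  rcases subsingleton_or_nontrivial (B ⊗[A] B) with h | h
  · exact mem_nilradical.mpr ⟨1, Subsingleton.elim _ _⟩
  haveI : CharP (B ⊗[A] B) p := by
    rw [CharP.charP_iff_prime_eq_zero hp.out,
      ← map_natCast (Algebra.TensorProduct.includeLeftRingHom : B →+* B ⊗[A] B), CharP.cast_eq_zero, map_zero]
  refine mem_nilradical.mpr ⟨p ^ s, ?_⟩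
  obtain ⟨a, ha⟩ := hpow b
  rw [sub_pow_char_pow, Algebra.TensorProduct.tmul_pow, Algebra.TensorProduct.tmul_pow, one_pow, ← ha,
    Algebra.algebraMap_eq_smul_one, smul_tmul, sub_self]

include hpow in
theorem surjective_of_subsingleton_kaehler [Algebra.FiniteType A B] [Subsingleton (Ω[B⁄A])] :
    Function.Surjective (algebraMap A B) := by
  haveI : Algebra.IsIntegral A B := ⟨fun b => by
    obtain ⟨a, ha⟩ := hpow b
    exact IsIntegral.of_pow (pow_pos hp.out.pos s) (ha ▸ isIntegral_algebraMap)⟩
  haveI : Module.Finite A B := Algebra.IsIntegral.finite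
  set I := KaehlerDifferential.ideal A B
  have hfg : I.FG := KaehlerDifferential.ideal_fg A B
  have hsq : I ^ 2 = I := (sq I).trans ((Ideal.cotangent_subsingleton_iff I).mp ‹_›)
  obtain ⟨n, hn⟩ := Ideal.FG.isNilpotent_iff_le_nilradical hfg |>.mpr (kaehlerIdeal_le_nilradical p s hpow)
  have hI : I = ⊥ := by
    rw [eq_bot_iff, ← show I ^ n = ⊥ from hn]
    rcases n with _ | n
    · simp
    · have : ∀ m, I ^ (m + 1) = I := fun m => by
        induction m with
        | zero => simp
        | succ m ih => rw [pow_succ, ih, ← sq, hsq]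
      rw [this]
  haveI : Algebra.IsEpi A B := (Algebra.isEpi_iff_forall_one_tmul_eq A B).mpr fun b => by
    have := KaehlerDifferential.one_smul_sub_smul_one_mem_ideal A b
    rw [show KaehlerDifferential.ideal A B = ⊥ from hI, Ideal.mem_bot, sub_eq_zero] at this
    exact this
  exact Algebra.isEpi_iff_surjective_algebraMap_of_finite.mp inferInstance

end Groth.Ega41Sep
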