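import Groth.Agent.Ega41Sep.FieldPBasis
import Mathlib.RingTheory.Smooth.Basic
import Mathlib.FieldTheory.Perfect
import Mathlib.Algebra.Field.ZMod
import Mathlib.Algebra.Algebra.ZMod

/-!
Lifting from a `p`-basis over a perfect ring.
-/

universe u v w

namespace Groth.Ega41Sep

open EGA41

variable {p : ℕ} [hp : Fact p.Prime] {A B : Type u} [CommRing A] [CharP A p] [PerfectRing A p]
  [CommRing B] [Algebra A B] [CharP B p]

lemma pPower_eq_range_frobenius {b : B} (hb : b ∈ pPowerSubalgebra p A B) :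
    ∃ c : B, c ^ p = b := by
  induction hb using Algebra.adjoin_induction with
  | mem y hy => exact hy
  | algebraMap r =>
      obtain ⟨s, rfl⟩ := surjective_frobenius A p r
      exact ⟨algebraMap A B s, by rw [frobenius_def, map_pow]⟩
  | add y z _ _ hy hz =>
      obtain ⟨c, rfl⟩ := hy; obtain ⟨d, rfl⟩ := hz
      exact ⟨c + d, add_pow_char c d p⟩
  | mul y z _ _ hy hz =>
      obtain ⟨c, rfl⟩ := hy; obtain ⟨d, rfl⟩ := hz
      exact ⟨c * d, mul_pow c d p⟩

omit [PerfectRing A p] in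
lemma natCast_char_eq_zero (A : Type u) [CommRing A] [CharP A p] (E : Type w) [CommRing E] [Algebra A E] :
    (p : E) = 0 := by
  rw [← map_natCast (algebraMap A E), CharP.cast_eq_zero, map_zero]

omit [PerfectRing A p] in
lemma add_pow_prime_of_cast_eq_zero {E : Type w} [CommRing E] (h : (p : E) = 0) (x y : E) :
    (x + y) ^ p = x ^ p + y ^ p := by
  obtain ⟨r, hr⟩ := exists_add_pow_prime_eq hp.out x y
  rw [hr, h]; ring

/-- Square-zero lifting from a `p`-basis over a perfect ring. -/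
theorem existsUnique_lift_sq [IsReduced B] {ι : Type u} {x : ι → B} (hx : IsPBasis p A x)
    {E : Type w} [CommRing E] [Algebra A E] (R : Ideal E) (hR : R ^ 2 = ⊥)
    (v : B →ₐ[A] E ⧸ R) (z : ι → E) (hz : ∀ i, Ideal.Quotient.mk R (z i) = v (x i)) :
    ∃! f : B →ₐ[A] E, (Ideal.Quotient.mkₐ A R).comp f = v ∧ ∀ i, f (x i) = z i := by
  have hpE : (p : E) = 0 := natCast_char_eq_zero A E
  have hwd : ∀ e e' : E, Ideal.Quotient.mk R e = Ideal.Quotient.mk R e' → e ^ p = e' ^ p := by
    intro e e' h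
    rw [Ideal.Quotient.eq] at h
    obtain ⟨r, hr, rfl⟩ : ∃ r ∈ R, e = e' + r := ⟨e - e', h, by ring⟩
    have : r ^ p ∈ R ^ 2 := Ideal.pow_le_pow_right hp.out.two_le (Ideal.pow_mem_pow hr p)
    rw [hR, Ideal.mem_bot] at this
    rw [add_pow_prime_of_cast_eq_zero hpE, this, add_zero]
  choose l hl using fun b : B => Ideal.Quotient.mk_surjective (v b)
  let φ : B →+* E :=
    { toFun := fun b => l b ^ p
      map_one' := (hwd _ 1 (by rw [hl, map_one, map_one])).trans (one_pow p)
      map_mul' := fun a b => (hwd _ (l a * l b) (by rw [hl, map_mul, map_mul, hl, hl])).trans (mul_pow ..)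
      map_zero' := (hwd _ 0 (by rw [hl, map_zero, map_zero])).trans (zero_pow hp.out.ne_zero)
      map_add' := fun a b => (hwd _ (l a + l b) (by rw [hl, map_add, map_add, hl, hl])).trans
        (add_pow_prime_of_cast_eq_zero hpE _ _) }
  choose rt hrt using fun r : pPowerSubalgebra p A B => pPower_eq_range_frobenius (p := p) r.2
  have hinj : ∀ a b : B, a ^ p = b ^ p → a = b := fun a b h => frobenius_inj B p h
  let ψ : pPowerSubalgebra p A B →+* E :=
    { toFun := fun r => φ (rt r)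
      map_one' := by rw [hinj (rt 1) 1 (by simp [hrt]), map_one]
      map_mul' := fun r s => by rw [hinj (rt (r * s)) (rt r * rt s) (by simp [hrt, mul_pow]), map_mul]
      map_zero' := by rw [hinj (rt 0) 0 (by simp [hrt, hp.out.ne_zero]), map_zero]
      map_add' := fun r s => by
        rw [hinj (rt (r + s)) (rt r + rt s) (by simp [hrt, add_pow_char]), map_add] }
  have hψ : ∀ b, ψ (pp p A b) = φ b := fun b => by
    show φ (rt (pp p A b)) = φ b
    rw [hinj (rt (pp p A b)) b (by simp [hrt])]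
  have hzi : ∀ i, z i ^ p = ψ (pp p A (x i)) := fun i => by
    rw [hψ]; exact hwd _ _ ((hz i).trans (hl _).symm)
  obtain ⟨f, ⟨hf₁, hf₂⟩, huniq⟩ := existsUnique_lift hx ψ z hzi
  have halg : ∀ a : A, f (algebraMap A B a) = algebraMap A E a := by
    intro a
    obtain ⟨s, rfl⟩ := surjective_frobenius A p a
    have h1 : algebraMap A B (frobenius A p s) = (pp p A (algebraMap A B s) : B) := by
      simp [frobenius_def]
    rw [h1, hf₁, hψ]
    show l (algebraMap A B s) ^ p = _
    rw [hwd _ (algebraMap A E s) (by rw [hl, AlgHom.commutes]; rfl), ← map_pow]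
    rfl
  have hcomp : (Ideal.Quotient.mk R).comp f = v.toRingHom := by
    refine hom_ext hx.2 (fun r => ?_) (fun i => ?_)
    · rw [RingHom.comp_apply, hf₁]
      show Ideal.Quotient.mk R (l (rt r) ^ p) = v (r : B)
      rw [map_pow, hl, ← map_pow, hrt]
    · rw [RingHom.comp_apply, hf₂]; exact hz i
  refine ⟨{ f with commutes' := halg }, ⟨AlgHom.ext fun b => RingHom.congr_fun hcomp b, hf₂⟩,
    fun g hg => AlgHom.ext fun b => ?_⟩
  refine RingHom.congr_fun (huniq g.toRingHom ⟨fun r => ?_, hg.2⟩) b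
  show g (r : B) = φ (rt r)
  rw [← hrt r, map_pow]
  exact hwd _ _ ((AlgHom.congr_fun hg.1 (rt r)).trans (hl _).symm)

/-- Nilpotent lifting from a `p`-basis over a perfect ring. -/
theorem existsUnique_lift_nilpotent [IsReduced B] {ι : Type u} {x : ι → B} (hx : IsPBasis p A x)
    {E : Type w} [CommRing E] [Algebra A E] (R : Ideal E) (hR : IsNilpotent R)
    (v : B →ₐ[A] E ⧸ R) (z : ι → E) (hz : ∀ i, Ideal.Quotient.mk R (z i) = v (x i)) :
    ∃! f : B →ₐ[A] E, (Ideal.Quotient.mkₐ A R).comp f = v ∧ ∀ i, f (x i) = z i := by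
  revert v z
  revert E
  intro E _ _ R hR
  refine Ideal.IsNilpotent.induction_on (S := E) (P := fun {S} _ I => ∀ [Algebra A S],
    ∀ (v : B →ₐ[A] S ⧸ I) (z : ι → S), (∀ i, Ideal.Quotient.mk I (z i) = v (x i)) →
      ∃! f : B →ₐ[A] S, (Ideal.Quotient.mkₐ A I).comp f = v ∧ ∀ i, f (x i) = z i) R hR ?_ ?_
  · intro S _ I hI _ v z hz
    exact existsUnique_lift_sq hx I hI v z hz
  · intro S _ I J hIJ hI hJ _ v z hz
    let e : ((S ⧸ I) ⧸ J.map (Ideal.Quotient.mk I)) ≃ₐ[A] S ⧸ J :=
      DoubleQuot.quotQuotEquivQuotOfLEₐ A hIJ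
    have he : ∀ s : S, e (Ideal.Quotient.mk _ (Ideal.Quotient.mk I s)) = Ideal.Quotient.mk J s :=
      fun s => rfl
    obtain ⟨g, ⟨hg₁, hg₂⟩, hguniq⟩ := hJ (e.symm.toAlgHom.comp v)
      (fun i => Ideal.Quotient.mk I (z i)) (fun i => e.injective (by rw [he, hz i]; simp))
    obtain ⟨f, ⟨hf₁, hf₂⟩, hfuniq⟩ := hI g z (fun i => (hg₂ i).symm)
    refine ⟨f, ⟨AlgHom.ext fun b => ?_, hf₂⟩, fun f' hf' => hfuniq f' ⟨?_, hf'.2⟩⟩
    · have h1 := AlgHom.congr_fun hg₁ b
      have h2 : Ideal.Quotient.mk I (f b) = g b := AlgHom.congr_fun hf₁ b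
      show Ideal.Quotient.mk J (f b) = v b
      rw [← he, h2]
      exact (congrArg e h1).trans (e.apply_symm_apply _)
    · refine hguniq _ ⟨AlgHom.ext fun b => e.injective ?_, fun i => congrArg (Ideal.Quotient.mk I) (hf'.2 i)⟩
      show e (Ideal.Quotient.mk _ (Ideal.Quotient.mk I (f' b))) = e (e.symm (v b))
      rw [he, AlgEquiv.apply_symm_apply]
      exact AlgHom.congr_fun hf'.1 b

theorem formallySmooth_of_isPBasis [IsReduced B] {ι : Type u} {x : ι → B} (hx : IsPBasis p A x) :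
    Algebra.FormallySmooth A B := by
  refine Algebra.FormallySmooth.of_comp_surjective fun C _ _ I hI g => ?_
  choose z hz using fun i => Ideal.Quotient.mk_surjective (g (x i))
  obtain ⟨f, ⟨hf, -⟩, -⟩ := existsUnique_lift_sq hx I hI g z hz
  exact ⟨f, hf⟩

end Groth.Ega41Sep
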