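import Groth.Prelude.Def_EGA41
import Groth.Prelude.Def_FSRel
import Mathlib.RingTheory.Kaehler.Basic
import Mathlib.Algebra.TrivSqZeroExt.Basic
import Mathlib.RingTheory.Ideal.Quotient.Operations

/-! Relative formal smoothness and left invertibility of the map on differentials. -/

universe u

namespace Groth.Ega41Sep

open TensorProduct KaehlerDifferential

variable (A B C : Type u) [CommRing A] [CommRing B] [CommRing C] [Algebra A B] [Algebra B C]
  [Algebra A C] [IsScalarTower A B C]

theorem isFormallySmoothRel_of_leftInverse (l : Ω[C⁄A] →ₗ[C] C ⊗[B] Ω[B⁄A])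
    (hl : l ∘ₗ mapBaseChange A B C = LinearMap.id) : EGA41.IsFormallySmoothRel A B C := by
  intro C' _ _ _ _ J hJ u₀ ⟨u, hu⟩
  have hmk : ∀ c, Ideal.Quotient.mk J (u c) = u₀ c := fun c => AlgHom.congr_fun hu c
  have hJJ : ∀ a ∈ J, ∀ b ∈ J, a * b = 0 := fun a ha b hb => by
    have : a * b ∈ J ^ 2 := sq J ▸ Ideal.mul_mem_mul ha hb
    rwa [hJ, Ideal.mem_bot] at this
  have hd : ∀ b : B, u (algebraMap B C b) - algebraMap B C' b ∈ J := fun b => by
    rw [← Ideal.Quotient.eq, hmk, AlgHom.commutes]; rfl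
  letI : Module C ↥J := Module.compHom _ u.toRingHom
  have hsmul : ∀ (c : C) (j : J), ((c • j : J) : C') = u c * j := fun c j => rfl
  haveI : IsScalarTower B C ↥J := IsScalarTower.of_algebraMap_smul fun b j => Subtype.ext <| by
    rw [hsmul, Submodule.coe_smul_of_tower, Algebra.smul_def, ← sub_eq_zero, ← sub_mul]
    exact hJJ _ (hd b) _ j.2
  haveI : IsScalarTower A C ↥J := IsScalarTower.of_algebraMap_smul fun a j => Subtype.ext <| by
    rw [hsmul, AlgHom.commutes, Submodule.coe_smul_of_tower, Algebra.smul_def]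
  let L : B →ₗ[A] ↥J :=
    { toFun := fun b => ⟨u (algebraMap B C b) - algebraMap B C' b, hd b⟩
      map_add' := fun a b => Subtype.ext (by simp; ring)
      map_smul' := fun a b => Subtype.ext (by
        simp only [Algebra.smul_def, map_mul, ← IsScalarTower.algebraMap_apply, AlgHom.commutes,
          RingHom.id_apply, Submodule.coe_smul_of_tower]
        ring) }
  let Dd : Derivation A B ↥J := Derivation.mk' L fun a b => Subtype.ext (by
    have h := hJJ _ (hd a) _ (hd b)
    show u (algebraMap B C (a * b)) - algebraMap B C' (a * b) =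
      a • (u (algebraMap B C b) - algebraMap B C' b) + b • (u (algebraMap B C a) - algebraMap B C' a)
    simp only [Algebra.smul_def, map_mul]
    linear_combination h)
  let F : C ⊗[B] Ω[B⁄A] →ₗ[C] ↥J := Dd.liftKaehlerDifferential.liftBaseChange C
  let δ : Derivation A C ↥J := (F ∘ₗ l).compDer (D A C)
  have hδ : ∀ b : B, δ (algebraMap B C b) = Dd b := fun b => by
    have h1 := LinearMap.congr_fun hl (1 ⊗ₜ D A B b)
    simp only [LinearMap.comp_apply, mapBaseChange_tmul, one_smul, KaehlerDifferential.map_D,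
      LinearMap.id_apply] at h1
    show F (l (D A C (algebraMap B C b))) = _
    rw [h1]; simp [F]
  refine ⟨
    { toFun := fun c => u c - (δ c : C')
      map_one' := by simp
      map_mul' := fun a b => by
        have h := hJJ _ (δ a).2 _ (δ b).2
        rw [map_mul, Derivation.leibniz, Submodule.coe_add, hsmul, hsmul]
        linear_combination -h
      map_zero' := by simp
      map_add' := fun a b => by simp; ring
      commutes' := fun b => by
        show u (algebraMap B C b) - (δ (algebraMap B C b) : C') = _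
        rw [hδ]; show _ - (u (algebraMap B C b) - algebraMap B C' b) = _; ring }, AlgHom.ext fun c => ?_⟩
  show Ideal.Quotient.mk J (u c - (δ c : C')) = u₀ c
  rw [map_sub, hmk, Ideal.Quotient.eq_zero_iff_mem.mpr (δ c).2, sub_zero]

open TrivSqZeroExt in
theorem exists_leftInverse_of_isFormallySmoothRel (h : EGA41.IsFormallySmoothRel A B C) :
    ∃ l : Ω[C⁄A] →ₗ[C] C ⊗[B] Ω[B⁄A], l ∘ₗ mapBaseChange A B C = LinearMap.id := by
  let φ : B →+* (TrivSqZeroExt C (C ⊗[B] Ω[B⁄A])) :=
    { toFun := fun b => inl (algebraMap B C b) + inr ((1 : C) ⊗ₜ[B] D A B b)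
      map_one' := by ext <;> simp
      map_mul' := fun a b => by
        ext
        · simp
        · simp only [snd_add, snd_inl, snd_inr, zero_add, snd_mul, fst_add, fst_inl, fst_inr,
            add_zero, op_smul_eq_smul, Derivation.leibniz, tmul_add, tmul_smul, algebraMap_smul]
      map_zero' := by ext <;> simp
      map_add' := fun a b => by ext <;> simp [tmul_add] }
  letI algB : Algebra B (TrivSqZeroExt C (C ⊗[B] Ω[B⁄A])) := φ.toAlgebra
  letI algA : Algebra A (TrivSqZeroExt C (C ⊗[B] Ω[B⁄A])) := ((inlHom C (C ⊗[B] Ω[B⁄A])).comp (algebraMap A C)).toAlgebra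
  have hA : ∀ a : A, @algebraMap A (TrivSqZeroExt C (C ⊗[B] Ω[B⁄A])) _ _ algA a = @algebraMap B (TrivSqZeroExt C (C ⊗[B] Ω[B⁄A])) _ _ algB (algebraMap A B a) := fun a => by
    show inl (algebraMap A C a) = φ (algebraMap A B a)
    ext <;> simp [φ, ← IsScalarTower.algebraMap_apply]
  let J : Ideal (TrivSqZeroExt C (C ⊗[B] Ω[B⁄A])) := RingHom.ker (fstHom C C (C ⊗[B] Ω[B⁄A])).toRingHom
  have hJ : J ^ 2 = ⊥ := by
    rw [sq, eq_bot_iff, Ideal.mul_le]
    intro a ha b hb
    have ha' : a.fst = 0 := ha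
    have hb' : b.fst = 0 := hb
    rw [Ideal.mem_bot]
    ext <;> simp [ha', hb']
  let u₀ : C →ₐ[B] (TrivSqZeroExt C (C ⊗[B] Ω[B⁄A])) ⧸ J :=
    { (Ideal.Quotient.mk J).comp (inlHom C (C ⊗[B] Ω[B⁄A])) with
      commutes' := fun b => by
        show Ideal.Quotient.mk J (inl (algebraMap B C b)) = Ideal.Quotient.mk J (φ b)
        rw [Ideal.Quotient.eq]
        show (inl (algebraMap B C b) - φ b : (TrivSqZeroExt C (C ⊗[B] Ω[B⁄A]))).fst = 0
        simp [φ] }
  obtain ⟨v, hv⟩ := @h (TrivSqZeroExt C (C ⊗[B] Ω[B⁄A])) _ algB algA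
    (@IsScalarTower.of_algebraMap_eq A B (TrivSqZeroExt C (C ⊗[B] Ω[B⁄A])) _ _ _ _ algB algA hA) J hJ u₀ ⟨{ inlHom C (C ⊗[B] Ω[B⁄A]) with commutes' := fun a => rfl }, AlgHom.ext fun c => rfl⟩
  have hfst : ∀ c, (v c).fst = c := fun c => by
    have h2 := AlgHom.congr_fun hv c
    have h3 : (v c - inl c : (TrivSqZeroExt C (C ⊗[B] Ω[B⁄A]))).fst = 0 := (Ideal.Quotient.eq).mp h2
    simpa [sub_eq_zero] using h3
  let L : C →ₗ[A] (C ⊗[B] Ω[B⁄A]) :=
    { toFun := fun c => (v c).snd
      map_add' := fun a b => by simp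
      map_smul' := fun a c => by
        rw [Algebra.smul_def, map_mul, IsScalarTower.algebraMap_apply A B C, AlgHom.commutes,
          ← hA]
        show (inl (algebraMap A C a) * v c : (TrivSqZeroExt C (C ⊗[B] Ω[B⁄A]))).snd = _
        simp }
  let δ : Derivation A C (C ⊗[B] Ω[B⁄A]) := Derivation.mk' L fun a b => by
    show (v (a * b)).snd = a • (v b).snd + b • (v a).snd
    rw [map_mul, snd_mul, hfst, hfst, op_smul_eq_smul]
  refine ⟨δ.liftKaehlerDifferential, ?_⟩
  refine TensorProduct.AlgebraTensorModule.curry_injective (LinearMap.ext_ring ?_)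
  refine Derivation.liftKaehlerDifferential_unique _ _ (Derivation.ext fun b => ?_)
  show δ.liftKaehlerDifferential (mapBaseChange A B C ((1 : C) ⊗ₜ D A B b)) = (1 : C) ⊗ₜ D A B b
  rw [mapBaseChange_tmul, one_smul, KaehlerDifferential.map_D,
    Derivation.liftKaehlerDifferential_comp_D]
  show (v (algebraMap B C b)).snd = _
  rw [AlgHom.commutes]
  show (φ b).snd = _
  simp [φ]

end Groth.Ega41Sep
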